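import Groth.Agent.H1Koszul.Bridge
import Mathlib

/-! The Euler characteristic of the Koszul complex is the leading coefficient of the Samuel function. -/

set_option autoImplicit false
universe u

open Filter Topology

namespace Groth.Agent.H1Koszul

variable {A : Type u} [CommRing A] {M : Type u} [AddCommGroup M] [Module A M]

/-- The degree zero embedding. -/
noncomputable def emb : ∀ l : List A, M →ₗ[A] T M l
  | [] => LinearMap.id
  | x :: l => (LinearMap.inl A (T M l) (T M l)).comp (emb l)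

theorem emb_injective : ∀ l : List A, Function.Injective (emb (M := M) l)
  | [] => fun _ _ h => h
  | x :: l => fun a b h => emb_injective l (congrArg Prod.fst h)

theorem range_emb : ∀ l : List A, LinearMap.range (emb (M := M) l) = P M l 0
  | [] => by rw [P_nil, if_pos rfl]; exact LinearMap.range_id
  | x :: l => by
    refine le_antisymm ?_ ?_
    · rintro _ ⟨m, rfl⟩
      exact mem_P_cons.2 ⟨range_emb l ▸ ⟨m, rfl⟩, zero_mem _⟩
    · rintro ⟨a, b⟩ hab
      obtain ⟨ha, hb⟩ := mem_P_cons.1 hab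
      rw [← range_emb l] at ha
      obtain ⟨m, rfl⟩ := ha
      rw [P_eq_bot l (Or.inl (by omega))] at hb
      exact ⟨m, Prod.ext rfl ((Submodule.mem_bot A).1 hb).symm⟩

theorem comap_emb_B : ∀ l : List A,
    (B M l 0).comap (emb (M := M) l) = Ideal.span {a | a ∈ l} • (⊤ : Submodule A M)
  | [] => by
    have h1 : B M ([] : List A) 0 = ⊥ := by
      rw [B, P_eq_bot _ (Or.inr (by simp)), Submodule.map_bot]
    rw [h1, show {a : A | a ∈ ([] : List A)} = ∅ by ext; simp, Ideal.span_empty, Submodule.bot_smul]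
    exact (Submodule.comap_bot _).trans (LinearMap.ker_eq_bot.2 (emb_injective _))
  | x :: l => by
    have hspan : Ideal.span {a | a ∈ x :: l} = Ideal.span {x} ⊔ Ideal.span {a | a ∈ l} := by
      rw [← Ideal.span_union]; congr 1; ext a; simp
    rw [hspan, Submodule.sup_smul, ← comap_emb_B l]
    refine le_antisymm ?_ (sup_le ?_ ?_)
    · rintro m ⟨⟨a, b⟩, hab, h⟩
      obtain ⟨ha, hb⟩ := mem_P_cons.1 hab
      rw [add_sub_cancel_right, ← range_emb l] at hb
      obtain ⟨n, rfl⟩ := hb
      have h1 : D M l a + x • emb l n = emb l m := congrArg Prod.fst h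
      rw [show m = x • n + (m - x • n) by rw [add_sub_cancel]]
      refine Submodule.add_mem_sup (Submodule.smul_mem_smul (Ideal.mem_span_singleton_self x) trivial)
        ⟨a, ha, ?_⟩
      rw [map_sub, map_smul, ← h1, add_sub_cancel_right]
    · refine Submodule.smul_le.2 fun r hr n _ => ?_
      obtain ⟨c, rfl⟩ := Ideal.mem_span_singleton'.1 hr
      refine ⟨(0, c • emb l n), mem_P_cons.2 ⟨zero_mem _, ?_⟩, ?_⟩
      · rw [add_sub_cancel_right, ← range_emb l]
        exact ⟨c • n, map_smul _ _ _⟩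
      · show ((D M l 0 + x • c • emb l n, -(D M l (c • emb l n))) : T M l × T M l) = (emb l ((c * x) • n), 0)
        have h0 : D M l (c • emb l n) = 0 := by
          have h2 : D M l (emb l n) ∈ P M l (0 - 1) := D_mem l ((range_emb (M := M) l).le ⟨n, rfl⟩)
          rw [P_eq_bot l (Or.inl (by omega))] at h2
          rw [map_smul, (Submodule.mem_bot A).1 h2, smul_zero]
        rw [h0, map_zero, zero_add, neg_zero, map_smul, mul_comm, mul_smul]
    · rintro m ⟨a, ha, h⟩
      refine ⟨(a, 0), mem_P_cons.2 ⟨ha, zero_mem _⟩, ?_⟩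
      rw [D_inl, h]
      rfl

theorem length_H_zero (l : List A) :
    Module.length A (H M l 0) = Module.length A (M ⧸ (Ideal.span {a | a ∈ l} • (⊤ : Submodule A M))) := by
  let φ : M →ₗ[A] Z M l 0 := (emb l).codRestrict _ fun m => mem_Z.2 ⟨(range_emb (M := M) l).le ⟨m, rfl⟩, by
    have h2 : D M l (emb l m) ∈ P M l (0 - 1) := D_mem l ((range_emb (M := M) l).le ⟨m, rfl⟩)
    rw [P_eq_bot l (Or.inl (by omega))] at h2
    exact (Submodule.mem_bot A).1 h2⟩
  have hφ : Function.Bijective φ := by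
    refine ⟨fun a b h => emb_injective l (congrArg Subtype.val h), fun ⟨a, ha⟩ => ?_⟩
    obtain ⟨m, rfl⟩ := (range_emb l).ge ha.1
    exact ⟨m, rfl⟩
  refine (LinearEquiv.length_eq (Submodule.Quotient.equiv _ _ (LinearEquiv.ofBijective φ hφ) ?_)).symm
  rw [← comap_emb_B]
  refine le_antisymm ?_ ?_
  · rintro _ ⟨m, hm, rfl⟩; exact hm
  · intro z hz
    obtain ⟨m, rfl⟩ := hφ.2 z
    exact ⟨m, hz, rfl⟩

/-- Elements of degree `i` in `I ^ m` times the complex. -/
noncomputable def W (I : Ideal A) (l : List A) (i : ℤ) (m : ℕ) : Submodule A (T M l) :=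
  P M l i ⊓ (I ^ m • (⊤ : Submodule A (T M l)))

theorem smul_prod (J : Ideal A) (x : A) (l : List A) :
    (J • (⊤ : Submodule A (T M (x :: l)))) =
      Submodule.prod (J • (⊤ : Submodule A (T M l))) (J • (⊤ : Submodule A (T M l))) := by
  refine le_antisymm (Submodule.smul_le.2 fun r hr z _ => ?_) ?_
  · exact Submodule.mem_prod.2 ⟨Submodule.smul_mem_smul hr trivial, Submodule.smul_mem_smul hr trivial⟩
  · rintro ⟨a, b⟩ ⟨ha, hb⟩
    rw [show ((a, b) : T M (x :: l)) = LinearMap.inl A (T M l) (T M l) a + LinearMap.inr A (T M l) (T M l) b from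
      Prod.ext (add_zero a).symm (zero_add b).symm]
    refine add_mem ?_ ?_
    · exact Submodule.smul_top_le_comap_smul_top J
        ((LinearMap.inl A (T M l) (T M l)) : T M l →ₗ[A] T M (x :: l)) ha
    · exact Submodule.smul_top_le_comap_smul_top J
        ((LinearMap.inr A (T M l) (T M l)) : T M l →ₗ[A] T M (x :: l)) hb

theorem length_P_quot (I : Ideal A) (m : ℕ) : ∀ (l : List A) (i : ℕ),
    Module.length A (P M l (i : ℤ) ⧸ (W (M := M) I l (i : ℤ) m).submoduleOf (P M l (i : ℤ))) =
      (l.length.choose i : ℕ∞) * Module.length A (M ⧸ (I ^ m • (⊤ : Submodule A M)))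
  | [], 0 => by
    rw [List.length_nil, Nat.choose_self, Nat.cast_one, one_mul]
    have hP : P M ([] : List A) ((0 : ℕ) : ℤ) = ⊤ := by rw [P_nil, if_pos Nat.cast_zero]
    refine LinearEquiv.length_eq (Submodule.Quotient.equiv _ _
      ((LinearEquiv.ofTop _ hP) : P M ([] : List A) ((0 : ℕ) : ℤ) ≃ₗ[A] M) ?_)
    have hmem : ∀ z, z ∈ P M ([] : List A) ((0 : ℕ) : ℤ) := fun z => by rw [hP]; exact Submodule.mem_top
    refine le_antisymm ?_ fun z hz => ⟨⟨z, hmem z⟩, ⟨hmem z, hz⟩, rfl⟩
    rintro _ ⟨z, hz, rfl⟩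
    exact hz.2
  | [], i + 1 => by
    haveI : Subsingleton (P M ([] : List A) ((i + 1 : ℕ) : ℤ)) := by
      rw [P_eq_bot ([] : List A) (Or.inr (by rw [List.length_nil]; omega))]; infer_instance
    rw [List.length_nil, Nat.choose_eq_zero_of_lt (Nat.succ_pos i), Nat.cast_zero, zero_mul,
      Module.length_eq_zero_iff]
    exact (Submodule.mkQ_surjective _).subsingleton
  | x :: l, i => by
    let π : (P M (x :: l) (i : ℤ)) →ₗ[A] (P M l (i : ℤ) ⧸ (W (M := M) I l (i : ℤ) m).submoduleOf (P M l (i : ℤ))) ×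
        (P M l ((i : ℤ) - 1) ⧸ (W (M := M) I l ((i : ℤ) - 1) m).submoduleOf (P M l ((i : ℤ) - 1))) :=
      LinearMap.prod
        (((W (M := M) I l (i : ℤ) m).submoduleOf (P M l (i : ℤ))).mkQ.comp
          (((LinearMap.fst A (T M l) (T M l)).comp (P M (x :: l) (i : ℤ)).subtype).codRestrict _
            fun z => (mem_P_cons.1 z.2).1))
        (((W (M := M) I l ((i : ℤ) - 1) m).submoduleOf (P M l ((i : ℤ) - 1))).mkQ.comp
          (((LinearMap.snd A (T M l) (T M l)).comp (P M (x :: l) (i : ℤ)).subtype).codRestrict _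
            fun z => (mem_P_cons.1 z.2).2))
    have hsurj : Function.Surjective π := by
      rintro ⟨a, b⟩
      obtain ⟨⟨a, ha⟩, rfl⟩ := Submodule.Quotient.mk_surjective _ a
      obtain ⟨⟨b, hb⟩, rfl⟩ := Submodule.Quotient.mk_surjective _ b
      exact ⟨⟨(a, b), mem_P_cons.2 ⟨ha, hb⟩⟩, rfl⟩
    have hker : LinearMap.ker π = (W (M := M) I (x :: l) (i : ℤ) m).submoduleOf (P M (x :: l) (i : ℤ)) := by
      ext ⟨⟨a, b⟩, hab⟩
      obtain ⟨ha, hb⟩ := mem_P_cons.1 hab
      rw [LinearMap.mem_ker]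
      show ((Submodule.Quotient.mk (⟨a, ha⟩ : P M l (i : ℤ)), Submodule.Quotient.mk (⟨b, hb⟩ : P M l ((i : ℤ) - 1))) :
        _ × _) = 0 ↔ _
      rw [Prod.mk_eq_zero, Submodule.Quotient.mk_eq_zero, Submodule.Quotient.mk_eq_zero]
      show (a ∈ W I l _ m ∧ b ∈ W I l _ m) ↔ _ ∈ W I (x :: l) _ m
      simp only [W, Submodule.mem_inf, smul_prod]
      exact ⟨fun h => ⟨hab, h.1.2, h.2.2⟩, fun h => ⟨⟨ha, h.2.1⟩, hb, h.2.2⟩⟩
    rw [((Submodule.quotEquivOfEq _ _ hker.symm).trans (π.quotKerEquivOfSurjective hsurj)).length_eq,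
      Module.length_prod, length_P_quot I m l i]
    cases i with
    | zero =>
      haveI : Subsingleton (P M l (((0 : ℕ) : ℤ) - 1)) := by
        rw [P_eq_bot l (Or.inl (by norm_num))]; infer_instance
      rw [Module.length_eq_zero (M := P M l (((0 : ℕ) : ℤ) - 1) ⧸ _), add_zero, List.length_cons, Nat.choose_zero_right,
        Nat.choose_zero_right]
    | succ i =>
      have e : ((i + 1 : ℕ) : ℤ) - 1 = (i : ℤ) := by push_cast; ring
      rw [e, length_P_quot I m l i, ← add_mul, List.length_cons, Nat.choose_succ_succ', Nat.cast_add]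
      ring

section noeth

variable [IsNoetherianRing A] [Module.Finite A M]

/-- Artin–Rees: deep cycles are boundaries of deep elements. -/
theorem exists_acyclic (l : List A) (i : ℤ) : ∃ m₀ : ℕ, ∀ m, m₀ ≤ m →
    ∀ z ∈ W (M := M) (Ideal.span {a | a ∈ l}) l i (m + 1), D M l z = 0 →
      ∃ w ∈ W (M := M) (Ideal.span {a | a ∈ l}) l (i + 1) m, D M l w = z := by
  set I := Ideal.span {a : A | a ∈ l}
  obtain ⟨k, hk⟩ := Ideal.exists_pow_inf_eq_pow_smul I (Z M l i)
  refine ⟨k, fun m hm z hz hDz => ?_⟩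
  have h1 : z ∈ I • (I ^ m • (⊤ : Submodule A (T M l)) ⊓ Z M l i) := by
    rw [hk m hm, ← Submodule.smul_assoc, smul_eq_mul, ← pow_succ', show m - k + 1 = m + 1 - k by omega,
      ← hk (m + 1) (by omega)]
    exact ⟨hz.2, mem_Z.2 ⟨hz.1, hDz⟩⟩
  refine Submodule.smul_induction_on h1 (fun c hc a ha => ?_) (fun a b ⟨v, hv, hva⟩ ⟨w, hw, hwb⟩ =>
    ⟨v + w, add_mem hv hw, by rw [map_add, hva, hwb]⟩)
  induction hc using Submodule.span_induction with
  | mem y hy =>
    obtain ⟨h, hP, hD⟩ := exists_homotopy (M := M) l y hy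
    refine ⟨h a, ⟨hP i a ha.2.1, Submodule.smul_top_le_comap_smul_top _ h ha.1⟩, ?_⟩
    have := hD a
    rwa [show D M l a = 0 from ha.2.2, map_zero, add_zero] at this
  | zero => exact ⟨0, zero_mem _, by rw [map_zero, zero_smul]⟩
  | add p q _ _ hp hq =>
    obtain ⟨v, hv, hva⟩ := hp
    obtain ⟨w, hw, hwb⟩ := hq
    exact ⟨v + w, add_mem hv hw, by rw [map_add, hva, hwb, add_smul]⟩
  | smul r p _ hp =>
    obtain ⟨v, hv, hva⟩ := hp
    exact ⟨r • v, Submodule.smul_mem _ r hv, by rw [map_smul, hva, smul_eq_mul, mul_smul]⟩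

omit [IsNoetherianRing A] [Module.Finite A M] in
theorem D_mem_smul : ∀ (l : List A) (a : T M l), D M l a ∈ Ideal.span {c | c ∈ l} • (⊤ : Submodule A (T M l))
  | [], a => zero_mem _
  | x :: l, (a, b) => by
    have hle : Ideal.span {c | c ∈ l} ≤ Ideal.span {c | c ∈ x :: l} :=
      Ideal.span_mono fun c hc => List.mem_cons_of_mem x hc
    rw [smul_prod]
    refine Submodule.mem_prod.2 ⟨add_mem (Submodule.smul_mono hle le_rfl (D_mem_smul l a))
      (Submodule.smul_mem_smul (Ideal.subset_span List.mem_cons_self) trivial), ?_⟩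
    exact neg_mem (Submodule.smul_mono hle le_rfl (D_mem_smul l b))

omit [IsNoetherianRing A] [Module.Finite A M] in
theorem D_mem_W (l : List A) {i j : ℤ} (hij : j + 1 = i) {m m' : ℕ} (hm : m' ≤ m + 1) {a : T M l}
    (ha : a ∈ W (M := M) (Ideal.span {c | c ∈ l}) l i m) :
    D M l a ∈ W (M := M) (Ideal.span {c | c ∈ l}) l j m' := by
  refine ⟨?_, Submodule.smul_mono (Ideal.pow_le_pow_right hm) le_rfl ?_⟩
  · have := D_mem l ha.1
    rwa [show i - 1 = j by omega] at this
  · have h1 : D M l a ∈ (Ideal.span {c | c ∈ l} ^ m • (⊤ : Submodule A (T M l))).map (D M l) := ⟨a, ha.2, rfl⟩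
    rw [Submodule.map_smul''] at h1
    rw [pow_succ, ← smul_eq_mul, Submodule.smul_assoc]
    refine Submodule.smul_mono le_rfl ?_ h1
    rintro _ ⟨b, -, rfl⟩
    exact D_mem_smul l b

theorem length_quot_pow_ne_top {l : List A} (h : Small l M) (m : ℕ) :
    Module.length A (M ⧸ (Ideal.span {a | a ∈ l} ^ m • (⊤ : Submodule A M))) ≠ ⊤ := by
  refine Module.length_ne_top_iff.2 ((S16234.result A _).1 fun p hp => ?_)
  rw [Module.support_quotient] at hp
  refine h p hp.1 fun a ha => ?_
  have h2 : Ideal.span {c : A | c ∈ l} ^ m ≤ p.asIdeal := (PrimeSpectrum.mem_zeroLocus _ _).1 hp.2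
  exact p.isPrime.mem_of_pow_mem m (h2 (Ideal.pow_mem_pow (Ideal.subset_span (show a ∈ {c : A | c ∈ l} from ha)) m))

/-- The Euler characteristic as an alternating sum of Samuel functions. -/
theorem exists_chi_eq_sum {l : List A} (h : Small l M) : ∃ N : ℕ, ∀ n, N ≤ n →
    chi l M = ∑ i ∈ Finset.range (l.length + 1), (-1 : ℤ) ^ i * (l.length.choose i : ℤ) *
      ((Module.length A (M ⧸ (Ideal.span {a | a ∈ l} ^ (n - i) • (⊤ : Submodule A M)))).toNat : ℤ) := by
  classical
  choose m₀ hm₀ using fun i : ℕ => exists_acyclic (M := M) l (i : ℤ)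
  refine ⟨(Finset.range (l.length + 2)).sup m₀ + l.length + 3, fun n hn => ?_⟩
  let Wn : ℤ → Submodule A (T M l) := fun i => W (Ideal.span {a : A | a ∈ l}) l i ((n : ℤ) - i).toNat
  let δ : ∀ i : ℤ, (P M l (i + 1) ⧸ (Wn (i + 1)).submoduleOf (P M l (i + 1))) →ₗ[A]
      (P M l i ⧸ (Wn i).submoduleOf (P M l i)) := fun i =>
    Submodule.mapQ _ _ ((D M l).restrict fun a ha => by
      have := D_mem l (show a ∈ P M l (i + 1) from ha)
      rwa [add_sub_cancel_right] at this) fun a ha => D_mem_W l rfl (by omega) ha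
  let r : ℤ → ℕ := fun i => (Module.length A (LinearMap.range (δ i))).toNat
  let q : ℤ → ℕ := fun i => (Module.length A (P M l i ⧸ (Wn i).submoduleOf (P M l i))).toNat
  have hQ : ∀ i : ℕ, (Module.length A (P M l (i : ℤ) ⧸ (Wn i).submoduleOf (P M l (i : ℤ)))) =
      (l.length.choose i : ℕ∞) *
        Module.length A (M ⧸ (Ideal.span {a | a ∈ l} ^ (n - i) • (⊤ : Submodule A M))) := fun i => by
    rw [← length_P_quot (Ideal.span {a : A | a ∈ l}) (n - i) l i, ← Int.toNat_sub n i]
  have hsub : ∀ i : ℤ, (i < 0 ∨ (l.length : ℤ) < i) → Subsingleton (P M l i) := fun i hi => by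
    rw [P_eq_bot l hi]; infer_instance
  have hfin : ∀ i : ℤ, Module.length A (P M l i ⧸ (Wn i).submoduleOf (P M l i)) ≠ ⊤ := fun i => by
    rcases lt_or_ge i 0 with hi | hi
    · haveI := hsub i (Or.inl hi)
      rw [Module.length_eq_zero]; exact ENat.zero_ne_top
    · lift i to ℕ using hi
      rw [hQ]
      exact WithTop.mul_ne_top (ENat.coe_ne_top _) (length_quot_pow_ne_top h _)
  have key : ∀ i : ℤ, -1 ≤ i → i < l.length → q (i + 1) = r (i + 1) + len l M (i + 1) + r i := by
    intro i hi1 hi2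
    let Q₁ := P M l (i + 1) ⧸ (Wn (i + 1)).submoduleOf (P M l (i + 1))
    let δ' : (Q₁ ⧸ LinearMap.range (δ (i + 1))) →ₗ[A] (P M l i ⧸ (Wn i).submoduleOf (P M l i)) :=
      (LinearMap.range (δ (i + 1))).liftQ (δ i) (by
        rintro _ ⟨z, rfl⟩
        obtain ⟨z, rfl⟩ := Submodule.Quotient.mk_surjective _ z
        rw [LinearMap.mem_ker]
        show δ i (Submodule.Quotient.mk _) = 0
        refine (Submodule.Quotient.mk_eq_zero _).2 ?_
        show D M l (D M l z.1) ∈ Wn i
        rw [D_D]; exact zero_mem _)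
    let Φ : Z M l (i + 1) →ₗ[A] Q₁ ⧸ LinearMap.range (δ (i + 1)) :=
      (LinearMap.range (δ (i + 1))).mkQ.comp (((Wn (i + 1)).submoduleOf (P M l (i + 1))).mkQ.comp
        (Submodule.inclusion (inf_le_left : Z M l (i + 1) ≤ P M l (i + 1))))
    have hdeep : ∀ (j : ℤ), -1 ≤ j → j ≤ l.length → ∀ z ∈ Wn j, D M l z = 0 →
        ∃ w ∈ Wn (j + 1), D M l w = z := by
      intro j hj1 hj2 z hz hDz
      rcases lt_or_ge j 0 with hj | hj
      · refine ⟨0, zero_mem _, ?_⟩
        have := hz.1
        rw [P_eq_bot l (Or.inl hj)] at this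
        replace this := (Submodule.mem_bot A).1 this
        rw [map_zero, this]
      lift j to ℕ using hj
      have hm : m₀ j ≤ (Finset.range (l.length + 2)).sup m₀ := Finset.le_sup (Finset.mem_range.2 (by omega))
      have e1 : ((n : ℤ) - (j : ℤ)).toNat = n - j - 1 + 1 := by omega
      have e2 : ((n : ℤ) - ((j : ℤ) + 1)).toNat = n - j - 1 := by omega
      obtain ⟨w, hw, hwz⟩ := hm₀ j (n - j - 1) (by omega) z (by simpa only [Wn, e1] using hz) hDz
      exact ⟨w, by simpa only [Wn, e2] using hw, hwz⟩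
    have hkerΦ : LinearMap.ker Φ = (B M l (i + 1)).submoduleOf (Z M l (i + 1)) := by
      ext ⟨z, hz⟩
      rw [LinearMap.mem_ker]
      show Submodule.Quotient.mk (Submodule.Quotient.mk (⟨z, hz.1⟩ : P M l (i + 1))) = 0 ↔ _
      rw [Submodule.Quotient.mk_eq_zero]
      constructor
      · rintro ⟨w, hw⟩
        obtain ⟨⟨w, hwP⟩, rfl⟩ := Submodule.Quotient.mk_surjective _ w
        have hd : D M l w - z ∈ Wn (i + 1) := ((Submodule.Quotient.eq
          ((Wn (i + 1)).submoduleOf (P M l (i + 1)))).1 hw : _)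
        obtain ⟨v, hv, hvz⟩ := hdeep (i + 1) (by omega) (by omega) _ hd (by
          rw [map_sub, D_D, show D M l z = 0 from hz.2, sub_zero])
        exact ⟨w - v, sub_mem hwP hv.1, show D M l (w - v) = z by rw [map_sub, hvz, sub_sub_cancel]⟩
      · rintro ⟨b, hb, hbz⟩
        exact ⟨Submodule.Quotient.mk ⟨b, hb⟩, congrArg Submodule.Quotient.mk (Subtype.ext hbz)⟩
    have hrangeΦ : LinearMap.range Φ = LinearMap.ker δ' := by
      refine le_antisymm ?_ ?_
      · rintro _ ⟨z, rfl⟩
        rw [LinearMap.mem_ker]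
        refine (Submodule.Quotient.mk_eq_zero _).2 ?_
        show D M l z.1 ∈ Wn i
        rw [show D M l z.1 = 0 from z.2.2]; exact zero_mem _
      · intro y hy
        obtain ⟨y, rfl⟩ := Submodule.Quotient.mk_surjective _ y
        obtain ⟨⟨p, hp⟩, rfl⟩ := Submodule.Quotient.mk_surjective _ y
        have hd : D M l p ∈ Wn i :=
          ((Submodule.Quotient.mk_eq_zero ((Wn i).submoduleOf (P M l i))).1 (LinearMap.mem_ker.1 hy) : _)
        obtain ⟨w, hw, hwz⟩ := hdeep i hi1 (le_of_lt hi2) _ hd (D_D l p)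
        refine ⟨⟨p - w, mem_Z.2 ⟨sub_mem hp hw.1, by rw [map_sub, hwz, sub_self]⟩⟩,
          congrArg Submodule.Quotient.mk ((Submodule.Quotient.eq _).2 ?_)⟩
        show p - w - p ∈ Wn (i + 1)
        rw [sub_sub_cancel_left]
        exact neg_mem hw
    have hH : Module.length A (H M l (i + 1)) = Module.length A (LinearMap.ker δ') := by
      rw [← hrangeΦ]
      exact ((Submodule.quotEquivOfEq _ _ hkerΦ.symm).trans Φ.quotKerEquivRange).length_eq
    have hrange : LinearMap.range δ' = LinearMap.range (δ i) := Submodule.range_liftQ _ _ _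
    have h1 := Module.length_eq_add_of_exact (LinearMap.range (δ (i + 1))).subtype
      (LinearMap.range (δ (i + 1))).mkQ Subtype.val_injective (Submodule.mkQ_surjective _)
      (LinearMap.exact_subtype_mkQ _)
    have h2 := Module.length_eq_add_of_exact (LinearMap.ker δ').subtype δ'.rangeRestrict
      Subtype.val_injective δ'.surjective_rangeRestrict
      (LinearMap.exact_iff.2 (by rw [LinearMap.ker_rangeRestrict, Submodule.range_subtype]))
    rw [← hH, hrange] at h2
    rw [h2, ← add_assoc] at h1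
    show (Module.length A (P M l (i + 1) ⧸ (Wn (i + 1)).submoduleOf (P M l (i + 1)))).toNat = _
    have ha : Module.length A (LinearMap.range (δ (i + 1))) ≠ ⊤ := fun hh => hfin (i + 1) (top_le_iff.1
      (hh.symm.le.trans (Module.length_le_of_injective _ (Submodule.injective_subtype _))))
    have hb : Module.length A (LinearMap.range (δ i)) ≠ ⊤ := fun hh => hfin i (top_le_iff.1
      (hh.symm.le.trans (Module.length_le_of_injective _ (Submodule.injective_subtype _))))
    rw [h1, ENat.toNat_add (m := Module.length A (LinearMap.range (δ (i + 1))) + Module.length A (H M l (i + 1)))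
      (WithTop.add_ne_top.2 ⟨ha, length_H_ne_top h (i + 1)⟩) hb,
      ENat.toNat_add ha (length_H_ne_top h (i + 1))]
    rfl
  have hr0 : r (-1) = 0 := by
    haveI := hsub (-1) (Or.inl (by norm_num))
    show ENat.toNat _ = 0
    rw [Module.length_eq_zero, ENat.toNat_zero]
  have hrl : r (l.length : ℤ) = 0 := by
    haveI := hsub ((l.length : ℤ) + 1) (Or.inr (by omega))
    have : LinearMap.range (δ (l.length : ℤ)) = ⊥ := by
      rw [LinearMap.range_eq_bot]
      exact LinearMap.ext fun z => by rw [Subsingleton.elim z 0, map_zero]; rfl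
    show ENat.toNat _ = 0
    rw [this, Module.length_bot, ENat.toNat_zero]
  have hsum : ∑ i ∈ Finset.range (l.length + 1), (-1 : ℤ) ^ i * (q (i : ℤ) : ℤ) = chi l M := by
    have tel := sum_telescope (l.length + 1) fun i => (r ((i : ℤ) - 1) : ℤ)
    simp only [Nat.cast_succ, add_sub_cancel_right, Nat.cast_zero, zero_sub, hr0, hrl, mul_zero, sub_zero] at tel
    rw [chi, ← sub_eq_zero, ← Finset.sum_sub_distrib, ← tel]
    refine Finset.sum_congr rfl fun i hi => ?_
    have hi' := Finset.mem_range.1 hi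
    have hk := key ((i : ℤ) - 1) (by omega) (by omega)
    rw [sub_add_cancel] at hk
    rw [hk]
    push_cast
    ring
  rw [← hsum]
  refine Finset.sum_congr rfl fun i _ => ?_
  rw [show q (i : ℤ) = (Module.length A (P M l (i : ℤ) ⧸ (Wn i).submoduleOf (P M l (i : ℤ)))).toNat from rfl,
    hQ, ENat.toNat_mul, ENat.toNat_coe, Nat.cast_mul, mul_assoc]

/-- The limit of a sequence with eventually constant `k`-th difference. -/
theorem tendsto_div_pow_of_diff {S : ℕ → ℝ} {k : ℕ} {c : ℝ} {N : ℕ}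
    (h : ∀ n, N ≤ n → (fwdDiff 1)^[k] S n = c) :
    Tendsto (fun n : ℕ => S n / (n : ℝ) ^ k) atTop (𝓝 (c / k.factorial)) := by
  have hvan : ∀ j, k < j → (fwdDiff 1)^[j] S N = 0 := by
    have hz : ∀ j, ∀ n, N ≤ n → (fwdDiff 1)^[k + 1 + j] S n = 0 := by
      intro j
      induction j with
      | zero => intro n hn; rw [Nat.add_zero, Function.iterate_succ', Function.comp_apply, fwdDiff, h n hn, h (n + 1) (by omega), sub_self]
      | succ j ih => intro n hn; rw [← Nat.add_assoc, Function.iterate_succ', Function.comp_apply, fwdDiff, ih n hn, ih (n + 1) (by omega), sub_self]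
    intro j hj
    obtain ⟨e, rfl⟩ : ∃ e, j = k + 1 + e := ⟨j - (k + 1), by omega⟩
    exact hz e N le_rfl
  have hexp : ∀ m : ℕ, S (N + m) = ∑ j ∈ Finset.range (k + 1), (m.choose j : ℝ) * (fwdDiff 1)^[j] S N := by
    intro m
    have h1 := shift_eq_sum_fwdDiff_iter 1 S m N
    rw [smul_eq_mul, mul_one] at h1
    rw [h1]
    simp only [nsmul_eq_mul]
    refine (Finset.sum_subset (Finset.range_mono (Nat.le_add_right (m + 1) (k + 1)))
      (fun j _ hj => ?_)).trans (Finset.sum_subset (Finset.range_mono (Nat.le_add_left (k + 1) (m + 1)))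
      (fun j _ hj => ?_)).symm
    · rw [Nat.choose_eq_zero_of_lt (by simpa using hj), Nat.cast_zero, zero_mul]
    · rw [hvan j (by simpa using hj), mul_zero]
  have hj : ∀ j : ℕ, Tendsto (fun m : ℕ => (m.choose j : ℝ) / (m : ℝ) ^ j) atTop (𝓝 (1 / j.factorial)) := fun j => by
    have h1 := (Asymptotics.isEquivalent_iff_tendsto_one (by
      filter_upwards [eventually_gt_atTop 0] with m hm
      exact div_ne_zero (pow_ne_zero _ (Nat.cast_ne_zero.2 hm.ne')) (Nat.cast_ne_zero.2 j.factorial_ne_zero))).1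
      (isEquivalent_choose j)
    have h2 := h1.mul_const (1 / (j.factorial : ℝ))
    rw [one_mul] at h2
    refine h2.congr' ?_
    filter_upwards [eventually_gt_atTop 0] with m hm
    have hm' : (m : ℝ) ≠ 0 := Nat.cast_ne_zero.2 hm.ne'
    have hf : (j.factorial : ℝ) ≠ 0 := Nat.cast_ne_zero.2 j.factorial_ne_zero
    simp only [Pi.div_apply]
    field_simp
  have hlim : Tendsto (fun m : ℕ => S (N + m) / (m : ℝ) ^ k) atTop (𝓝 (c / k.factorial)) := by
    simp only [hexp, Finset.sum_div]
    rw [show c / (k.factorial : ℝ) = ∑ j ∈ Finset.range (k + 1), (if j = k then c / (k.factorial : ℝ) else 0) by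
      rw [Finset.sum_ite_eq' (Finset.range (k + 1)) k, if_pos (Finset.mem_range.2 (Nat.lt_succ_self k))]]
    refine tendsto_finsetSum _ fun j hjk => ?_
    rcases eq_or_lt_of_le (Nat.lt_succ_iff.1 (Finset.mem_range.1 hjk)) with rfl | hlt
    · rw [if_pos rfl, h N le_rfl]
      have := (hj j).mul_const c
      rw [one_div_mul_eq_div] at this
      refine this.congr fun m => ?_
      ring
    · rw [if_neg hlt.ne]
      have h0 : Tendsto (fun m : ℕ => ((m : ℝ) ^ (k - j))⁻¹) atTop (𝓝 0) :=
        ((tendsto_pow_atTop (by omega)).comp tendsto_natCast_atTop_atTop).inv_tendsto_atTop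
      have := ((hj j).mul h0).mul_const ((fwdDiff 1)^[j] S N)
      rw [mul_zero, zero_mul] at this
      refine this.congr fun m => ?_
      rw [show (m : ℝ) ^ k = (m : ℝ) ^ j * (m : ℝ) ^ (k - j) by rw [← pow_add, Nat.add_sub_cancel' hlt.le]]
      ring
  have h1 : Tendsto (fun m : ℕ => S (m + N) / ((m + N : ℕ) : ℝ) ^ k) atTop (𝓝 (c / k.factorial)) := by
    have hr : Tendsto (fun m : ℕ => ((m : ℝ) / ((m : ℝ) + N)) ^ k) atTop (𝓝 1) := by
      have := (tendsto_natCast_div_add_atTop (N : ℝ)).pow k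
      rwa [one_pow] at this
    have := hlim.mul hr
    rw [mul_one] at this
    refine this.congr' ?_
    filter_upwards [eventually_gt_atTop 0] with m hm
    have hm' : (m : ℝ) ≠ 0 := Nat.cast_ne_zero.2 hm.ne'
    rw [Nat.cast_add, add_comm N m, div_pow]
    field_simp
  exact (tendsto_add_atTop_iff_nat N).1 h1

/-- The Euler characteristic computes the Samuel multiplicity. -/
theorem tendsto_samuel {l : List A} (h : Small l M) :
    Tendsto (fun n : ℕ =>
      ((Module.length A (M ⧸ (Ideal.span {a | a ∈ l} ^ n • (⊤ : Submodule A M)))).toNat : ℝ) / (n : ℝ) ^ l.length)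
      atTop (𝓝 ((chi l M : ℝ) / l.length.factorial)) := by
  obtain ⟨N, hN⟩ := exists_chi_eq_sum h
  refine tendsto_div_pow_of_diff (N := N) fun y hy => ?_
  rw [fwdDiff_iter_eq_sum_shift, hN (y + l.length) (hy.trans (Nat.le_add_right _ _)), Int.cast_sum,
    ← Finset.sum_range_reflect]
  refine Finset.sum_congr rfl fun i hi => ?_
  have hi' := Finset.mem_range.1 hi
  rw [show l.length + 1 - 1 - i = l.length - i by omega, Nat.choose_symm (by omega),
    show l.length - (l.length - i) = i by omega, smul_eq_mul, mul_one,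
    show y + (l.length - i) = y + l.length - i by omega, zsmul_eq_mul]
  push_cast
  rfl

end noeth

end Groth.Agent.H1Koszul
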