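import Mathlib

/-! An elementwise model of the Koszul complex of a list of elements with coefficients in a module. -/

set_option autoImplicit false
universe u

namespace Groth.Agent.H1Koszul

variable {A : Type u} [CommRing A]

section

variable (M : Type u) [AddCommGroup M] [Module A M]

/-- The total module of the Koszul complex. -/
noncomputable def T : List A → ModuleCat.{u} A
  | [] => ModuleCat.of A M
  | _ :: l => ModuleCat.of A (T l × T l)

/-- The differential. -/
noncomputable def D : ∀ l : List A, T M l →ₗ[A] T M l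
  | [] => 0
  | x :: l => LinearMap.prod ((D l).comp (LinearMap.fst A (T M l) (T M l)) + x • LinearMap.snd A (T M l) (T M l))
      (-((D l).comp (LinearMap.snd A (T M l) (T M l))))

/-- The piece of degree `i`. -/
noncomputable def P : ∀ l : List A, ℤ → Submodule A (T M l)
  | [], i => if i = 0 then ⊤ else ⊥
  | _ :: l, i => Submodule.prod (P l i) (P l (i - 1))

variable {M}

theorem D_inl (x : A) (l : List A) (a : T M l) :
    D M (x :: l) (a, 0) = (D M l a, 0) := by
  show ((D M l a + x • (0 : T M l), -(D M l 0)) : T M l × T M l) = (D M l a, 0)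
  rw [map_zero, smul_zero, add_zero, neg_zero]

theorem D_cons (x : A) (l : List A) (a b : T M l) :
    D M (x :: l) (a, b) = (D M l a + x • b, -(D M l b)) := rfl

theorem mem_P_cons {x : A} {l : List A} {i : ℤ} {a b : T M l} :
    ((a, b) : T M (x :: l)) ∈ P M (x :: l) i ↔ a ∈ P M l i ∧ b ∈ P M l (i - 1) := Iff.rfl

theorem P_nil (i : ℤ) : P M ([] : List A) i = if i = 0 then ⊤ else ⊥ := rfl

theorem P_eq_bot : ∀ (l : List A) {i : ℤ}, (i < 0 ∨ (l.length : ℤ) < i) → P M l i = ⊥
  | [], i, h => by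
    rw [P_nil, if_neg]
    simp at h
    omega
  | x :: l, i, h => by
    rw [List.length_cons, Nat.cast_succ] at h
    show Submodule.prod (P M l i) (P M l (i - 1)) = ⊥
    rw [P_eq_bot l (i := i) (by omega), P_eq_bot l (i := i - 1) (by omega), Submodule.prod_bot]

theorem D_mem : ∀ (l : List A) {i : ℤ} {a : T M l}, a ∈ P M l i → D M l a ∈ P M l (i - 1)
  | [], _, _, _ => zero_mem _
  | x :: l, i, (a, b), h => by
    refine mem_P_cons.2 ?_
    replace h := mem_P_cons.1 h
    exact ⟨add_mem (D_mem l h.1) (Submodule.smul_mem _ _ h.2), neg_mem (D_mem l h.2)⟩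

theorem D_D : ∀ (l : List A) (a : T M l), D M l (D M l a) = 0
  | [], _ => rfl
  | x :: l, (a, b) => by
    rw [D_cons, D_cons, map_add, map_smul, map_neg, D_D l a, D_D l b, smul_neg, neg_zero, neg_zero]
    show ((0 : T M l) + x • D M l b + -(x • D M l b), (0 : T M l)) = 0
    rw [zero_add, add_neg_cancel]
    rfl

theorem annihilator_le : ∀ (l : List A), Module.annihilator A M ≤ Module.annihilator A (T M l)
  | [] => le_rfl
  | x :: l => fun c hc => Module.mem_annihilator.2 fun (a, b) =>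
      Prod.ext (Module.mem_annihilator.1 (annihilator_le l hc) a) (Module.mem_annihilator.1 (annihilator_le l hc) b)

instance finite_T [Module.Finite A M] : ∀ l : List A, Module.Finite A (T M l)
  | [] => ‹Module.Finite A M›
  | x :: l => by
    haveI := finite_T l
    exact inferInstanceAs (Module.Finite A (T M l × T M l))

theorem exists_homotopy : ∀ (l : List A), ∀ y ∈ l, ∃ h : T M l →ₗ[A] T M l,
    (∀ (i : ℤ) (a : T M l), a ∈ P M l i → h a ∈ P M l (i + 1)) ∧ ∀ a, D M l (h a) + h (D M l a) = y • a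
  | x :: l, y, hy => by
    by_cases hxy : y = x
    · subst hxy
      refine ⟨LinearMap.prod 0 (LinearMap.fst A (T M l) (T M l)), fun i (a, b) h => ?_, fun (a, b) => ?_⟩
      · exact mem_P_cons.2 ⟨zero_mem (P M l (i + 1)), by rw [add_sub_cancel_right]; exact (mem_P_cons.1 h).1⟩
      · show ((D M l 0 + y • a, -(D M l a)) : T M l × T M l) + ((0 : T M l), D M l a + y • b) = (y • a, y • b)
        rw [map_zero, zero_add, Prod.mk_add_mk, add_zero, neg_add_cancel_left]
    · obtain ⟨h, hP, hD⟩ := exists_homotopy l y (by simpa [hxy] using hy)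
      refine ⟨LinearMap.prod (h.comp (LinearMap.fst A (T M l) (T M l)))
        (-(h.comp (LinearMap.snd A (T M l) (T M l)))), fun i (a, b) hab => ?_, fun (a, b) => ?_⟩
      · replace hab := mem_P_cons.1 hab
        refine mem_P_cons.2 ⟨hP i a hab.1, neg_mem (show h b ∈ _ from ?_)⟩
        have := hP (i - 1) b hab.2
        rw [sub_add_cancel] at this
        rwa [add_sub_cancel_right]
      · show ((D M l (h a) + x • -(h b), -(D M l (-(h b)))) : T M l × T M l) +
          (h (D M l a + x • b), -(h (-(D M l b)))) = (y • a, y • b)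
        rw [map_add, map_smul, map_neg, map_neg, neg_neg, neg_neg, smul_neg, Prod.mk_add_mk, ← hD a, ← hD b]
        abel_nf

variable (M)

/-- Cycles. -/
noncomputable def Z (l : List A) (i : ℤ) : Submodule A (T M l) := P M l i ⊓ LinearMap.ker (D M l)

/-- Boundaries. -/
noncomputable def B (l : List A) (i : ℤ) : Submodule A (T M l) := (P M l (i + 1)).map (D M l)

/-- Homology. -/
abbrev H (l : List A) (i : ℤ) : Type u := Z M l i ⧸ (B M l i).submoduleOf (Z M l i)

variable {M}

theorem mem_Z {l : List A} {i : ℤ} {a : T M l} : a ∈ Z M l i ↔ a ∈ P M l i ∧ D M l a = 0 := Iff.rfl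

theorem mem_B {l : List A} {i : ℤ} {a : T M l} : a ∈ B M l i ↔ ∃ b ∈ P M l (i + 1), D M l b = a := Iff.rfl

theorem B_le_Z (l : List A) (i : ℤ) : B M l i ≤ Z M l i := by
  rintro _ ⟨a, ha, rfl⟩
  refine ⟨?_, D_D l a⟩
  have := D_mem l ha
  rwa [add_sub_cancel_right] at this

/-- The class of a cycle. -/
noncomputable def cls (l : List A) (i : ℤ) : Z M l i →ₗ[A] H M l i := ((B M l i).submoduleOf (Z M l i)).mkQ

theorem cls_surjective (l : List A) (i : ℤ) : Function.Surjective (cls (M := M) l i) :=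
  Submodule.mkQ_surjective _

theorem cls_eq_zero {l : List A} {i : ℤ} {a : Z M l i} :
    cls l i a = 0 ↔ ∃ b ∈ P M l (i + 1), D M l b = a := by
  rw [cls, Submodule.mkQ_apply, Submodule.Quotient.mk_eq_zero]
  exact Iff.rfl

theorem smul_eq_zero_of_mem {l : List A} {i : ℤ} {c : A}
    (hc : c ∈ Ideal.span {a | a ∈ l} ⊔ Module.annihilator A M) (z : H M l i) : c • z = 0 := by
  obtain ⟨a, rfl⟩ := cls_surjective l i z
  refine (show Ideal.span {a | a ∈ l} ⊔ Module.annihilator A M ≤ LinearMap.ker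
    (LinearMap.toSpanSingleton A (H M l i) (cls l i a)) from sup_le (Ideal.span_le.2 fun y hy => ?_) fun y hy => ?_) hc
  · obtain ⟨h, hP, hD⟩ := exists_homotopy (M := M) l y hy
    show y • cls l i a = 0
    rw [← map_smul, cls_eq_zero]
    refine ⟨h a, hP i a a.2.1, ?_⟩
    have := hD a
    rwa [a.2.2, map_zero, add_zero] at this
  · show y • cls l i a = 0
    rw [← map_smul, cls_eq_zero]
    refine ⟨0, zero_mem _, ?_⟩
    rw [map_zero, Submodule.coe_smul, Module.mem_annihilator.1 (annihilator_le l hy)]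

theorem subsingleton_H (l : List A) {i : ℤ} (h : i < 0 ∨ (l.length : ℤ) < i) : Subsingleton (H M l i) := by
  refine subsingleton_of_forall_eq 0 fun z => ?_
  obtain ⟨⟨a, ha⟩, rfl⟩ := cls_surjective l i z
  have h0 : a = 0 := by
    have := ha.1
    rw [P_eq_bot l h] at this
    exact (Submodule.mem_bot A).1 this
  subst h0
  exact map_zero _

end

section map

variable {M N N' : Type u} [AddCommGroup M] [Module A M] [AddCommGroup N] [Module A N] [AddCommGroup N'] [Module A N']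

/-- Functoriality in the coefficients. -/
noncomputable def map (f : M →ₗ[A] N) : ∀ l : List A, T M l →ₗ[A] T N l
  | [] => f
  | _ :: l => LinearMap.prodMap (map f l) (map f l)

theorem map_cons (f : M →ₗ[A] N) (x : A) (l : List A) (a b : T M l) :
    map f (x :: l) (a, b) = (map f l a, map f l b) := rfl

theorem map_D (f : M →ₗ[A] N) : ∀ (l : List A) (a : T M l), map f l (D M l a) = D N l (map f l a)
  | [], a => map_zero f
  | x :: l, (a, b) => by
    rw [D_cons, map_cons, map_cons, D_cons, map_add, map_smul, map_neg, map_D f l a, map_D f l b]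

theorem map_mem (f : M →ₗ[A] N) : ∀ (l : List A) {i : ℤ} {a : T M l}, a ∈ P M l i → map f l a ∈ P N l i
  | [], i, a, h => by
    rw [P_nil] at h ⊢
    split_ifs at h ⊢
    · trivial
    · rw [Submodule.mem_bot] at h
      rw [h, map_zero]
      exact zero_mem _
  | x :: l, i, (a, b), h => ⟨map_mem f l h.1, map_mem f l h.2⟩

theorem map_injective {f : M →ₗ[A] N} (hf : Function.Injective f) : ∀ l, Function.Injective (map f l)
  | [] => hf
  | _ :: l => (map_injective hf l).prodMap (map_injective hf l)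

theorem mem_P_of_map_mem {f : M →ₗ[A] N} (hf : Function.Injective f) :
    ∀ (l : List A) {i : ℤ} {a : T M l}, map f l a ∈ P N l i → a ∈ P M l i
  | [], i, a, h => by
    rw [P_nil] at h ⊢
    split_ifs at h ⊢
    · trivial
    · rw [Submodule.mem_bot] at h ⊢
      exact hf (h.trans (map_zero f).symm)
  | x :: l, i, (a, b), h => ⟨mem_P_of_map_mem hf l h.1, mem_P_of_map_mem hf l h.2⟩

theorem exists_preimage {g : M →ₗ[A] N} (hg : Function.Surjective g) :
    ∀ (l : List A) {i : ℤ} {b : T N l}, b ∈ P N l i → ∃ a ∈ P M l i, map g l a = b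
  | [], i, b, h => by
    rw [P_nil] at h
    split_ifs at h with hi
    · obtain ⟨a, ha⟩ := hg b
      exact ⟨a, by rw [P_nil, if_pos hi]; trivial, ha⟩
    · rw [Submodule.mem_bot] at h
      exact ⟨0, zero_mem _, by rw [map_zero, h]⟩
  | x :: l, i, (a, b), h => by
    obtain ⟨a', ha', rfl⟩ := exists_preimage hg l h.1
    obtain ⟨b', hb', rfl⟩ := exists_preimage hg l h.2
    exact ⟨(a', b'), ⟨ha', hb'⟩, rfl⟩

theorem map_exact {f : M →ₗ[A] N} {g : N →ₗ[A] N'} (h : Function.Exact f g) :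
    ∀ l, Function.Exact (map f l) (map g l)
  | [] => h
  | x :: l => fun (a, b) => by
    refine ⟨fun hab => ?_, ?_⟩
    · obtain ⟨a', rfl⟩ := (map_exact h l a).1 (congrArg Prod.fst hab)
      obtain ⟨b', rfl⟩ := (map_exact h l b).1 (congrArg Prod.snd hab)
      exact ⟨(a', b'), rfl⟩
    · rintro ⟨⟨a', b'⟩, h'⟩
      rw [← h']
      exact Prod.ext ((map_exact h l _).2 ⟨a', rfl⟩) ((map_exact h l _).2 ⟨b', rfl⟩)

/-- The map on cycles. -/
noncomputable def mapZ (f : M →ₗ[A] N) (l : List A) (i : ℤ) : Z M l i →ₗ[A] Z N l i :=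
  (map f l).restrict fun a ha => mem_Z.2 ⟨map_mem f l ha.1, by
    rw [← map_D, show D M l a = 0 from ha.2, map_zero]⟩

/-- The map on homology. -/
noncomputable def mapH (f : M →ₗ[A] N) (l : List A) (i : ℤ) : H M l i →ₗ[A] H N l i :=
  Submodule.mapQ _ _ (mapZ f l i) (by
    rintro a ⟨b, hb, hba⟩
    exact ⟨map f l b, map_mem f l hb, by rw [← map_D]; exact congrArg (map f l) hba⟩)

theorem mapH_cls (f : M →ₗ[A] N) (l : List A) (i : ℤ) (a : Z M l i) :
    mapH f l i (cls l i a) = cls l i (mapZ f l i a) := rfl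

theorem mapZ_val (f : M →ₗ[A] N) (l : List A) (i : ℤ) (a : Z M l i) :
    ((mapZ f l i a : Z N l i) : T N l) = map f l (a : T M l) := rfl

variable {f : M →ₗ[A] N} {g : N →ₗ[A] N'} (hf : Function.Injective f) (hg : Function.Surjective g)
  (hfg : Function.Exact f g)

include hf hg hfg in
theorem mapH_exact (l : List A) (i : ℤ) : Function.Exact (mapH f l i) (mapH g l i) := by
  intro z
  obtain ⟨a, rfl⟩ := cls_surjective l i z
  refine ⟨fun hz => ?_, ?_⟩
  · rw [mapH_cls, cls_eq_zero] at hz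
    obtain ⟨b, hb, hba⟩ := hz
    obtain ⟨c, hc, rfl⟩ := exists_preimage hg l hb
    obtain ⟨a', ha'⟩ := (map_exact hfg l (a.1 - D N l c)).1 (by
      rw [map_sub, map_D, hba, mapZ_val, sub_self])
    have h1 : a' ∈ Z M l i := by
      refine mem_Z.2 ⟨mem_P_of_map_mem hf l ?_, map_injective hf l ?_⟩
      · rw [ha']
        refine sub_mem a.2.1 ?_
        have := D_mem l hc
        rwa [add_sub_cancel_right] at this
      · rw [map_zero, map_D, ha', map_sub, D_D, show D N l a.1 = 0 from a.2.2, sub_zero]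
    refine ⟨cls l i ⟨a', h1⟩, ?_⟩
    rw [mapH_cls, eq_comm, ← sub_eq_zero, ← map_sub, cls_eq_zero]
    exact ⟨c, hc, by rw [Submodule.coe_sub, mapZ_val, ha', sub_sub_cancel]⟩
  · rintro ⟨w, hw⟩
    obtain ⟨b, rfl⟩ := cls_surjective l i w
    rw [← hw, mapH_cls, mapH_cls, cls_eq_zero]
    refine ⟨0, zero_mem _, ?_⟩
    rw [map_zero, mapZ_val, mapZ_val, (map_exact hfg l _).2 ⟨b.1, rfl⟩]

include hf hg hfg in
/-- The connecting isomorphism. -/
theorem nonempty_coker_equiv_ker (l : List A) (i : ℤ) :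
    Nonempty ((H N' l i ⧸ LinearMap.range (mapH g l i)) ≃ₗ[A] LinearMap.ker (mapH f l (i - 1))) := by
  let Q : Submodule A (T N l) := P N l i ⊓ (LinearMap.range (map f l)).comap (D N l)
  let e := LinearEquiv.ofInjective (map f l) (map_injective hf l)
  have hmemQ : ∀ a ∈ Q, map g l a ∈ Z N' l i := fun a ha => mem_Z.2 ⟨map_mem g l ha.1, by
    rw [← map_D]; exact (map_exact hfg l _).2 ha.2⟩
  let α : Q →ₗ[A] H N' l i ⧸ LinearMap.range (mapH g l i) :=
    (LinearMap.range (mapH g l i)).mkQ.comp ((cls l i).comp ((map g l).restrict hmemQ))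
  let δ₀ : Q →ₗ[A] T M l := e.symm.toLinearMap.comp (((D N l).comp Q.subtype).codRestrict _ fun a => a.2.2)
  have hδ₀ : ∀ a : Q, map f l (δ₀ a) = D N l a.1 := fun a =>
    congrArg Subtype.val (e.apply_symm_apply ⟨D N l a.1, a.2.2⟩)
  have hδZ : ∀ a : Q, δ₀ a ∈ Z M l (i - 1) := fun a => mem_Z.2
    ⟨mem_P_of_map_mem hf l (by rw [hδ₀]; exact D_mem l a.2.1),
      map_injective hf l (by rw [map_D, hδ₀, D_D, map_zero])⟩
  have hker : ∀ a : Q, cls l (i - 1) (δ₀.codRestrict _ hδZ a) ∈ LinearMap.ker (mapH f l (i - 1)) := fun a => by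
    rw [LinearMap.mem_ker, mapH_cls, cls_eq_zero, sub_add_cancel]
    exact ⟨a.1, a.2.1, (hδ₀ a).symm⟩
  let β : Q →ₗ[A] LinearMap.ker (mapH f l (i - 1)) :=
    ((cls l (i - 1)).comp (δ₀.codRestrict _ hδZ)).codRestrict _ hker
  have hα : Function.Surjective α := by
    intro z
    obtain ⟨z, rfl⟩ := Submodule.mkQ_surjective _ z
    obtain ⟨b, rfl⟩ := cls_surjective l i z
    obtain ⟨a, ha, hab⟩ := exists_preimage hg l b.2.1
    exact ⟨⟨a, ha, (map_exact hfg l _).1 (by rw [map_D, hab]; exact b.2.2)⟩,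
      congrArg _ (congrArg (cls l i) (Subtype.ext hab))⟩
  have hβ : Function.Surjective β := by
    rintro ⟨w, hw⟩
    obtain ⟨c, rfl⟩ := cls_surjective l (i - 1) w
    rw [LinearMap.mem_ker, mapH_cls, cls_eq_zero, sub_add_cancel] at hw
    obtain ⟨a, ha, hac⟩ := hw
    let a' : Q := ⟨a, ha, ⟨c.1, hac.symm⟩⟩
    refine ⟨a', Subtype.ext (congrArg (cls l (i - 1)) (Subtype.ext (map_injective hf l ?_)))⟩
    show map f l (δ₀ a') = map f l c.1
    rw [hδ₀]
    exact hac
  have hk : LinearMap.ker α = LinearMap.ker β := by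
    ext a
    have hcl : β a = 0 ↔ ∃ b ∈ P M l i, D M l b = δ₀ a := by
      rw [← Subtype.coe_inj]
      show cls l (i - 1) (δ₀.codRestrict _ hδZ a) = 0 ↔ _
      rw [cls_eq_zero, sub_add_cancel]
      rfl
    rw [LinearMap.mem_ker, LinearMap.mem_ker, hcl]
    show Submodule.Quotient.mk (cls l i ⟨map g l a.1, hmemQ _ a.2⟩) = 0 ↔ _
    rw [Submodule.Quotient.mk_eq_zero, LinearMap.mem_range]
    constructor
    · rintro ⟨w, hw⟩
      obtain ⟨b, rfl⟩ := cls_surjective l i w
      rw [mapH_cls, eq_comm, ← sub_eq_zero, ← map_sub, cls_eq_zero] at hw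
      obtain ⟨c, hc, hcw⟩ := hw
      obtain ⟨c, hc', rfl⟩ := exists_preimage hg l hc
      obtain ⟨m, hm⟩ := (map_exact hfg l (a.1 - b.1 - D N l c)).1 (by
        rw [map_sub, map_sub, map_D, hcw, Submodule.coe_sub, mapZ_val, sub_self])
      refine ⟨m, mem_P_of_map_mem hf l ?_, map_injective hf l ?_⟩
      · rw [hm]
        refine sub_mem (sub_mem a.2.1 b.2.1) ?_
        have := D_mem l hc'
        rwa [add_sub_cancel_right] at this
      · rw [map_D, hm, hδ₀, map_sub, map_sub, D_D, show D N l b.1 = 0 from b.2.2, sub_zero, sub_zero]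
    · rintro ⟨m, hm, hDm⟩
      have hz : a.1 - map f l m ∈ Z N l i := mem_Z.2 ⟨sub_mem a.2.1 (map_mem f l hm), by
        rw [map_sub, ← map_D, hDm, hδ₀, sub_self]⟩
      refine ⟨cls l i ⟨_, hz⟩, ?_⟩
      rw [mapH_cls]
      refine congrArg (cls l i) (Subtype.ext ?_)
      rw [mapZ_val, map_sub, (map_exact hfg l _).2 ⟨m, rfl⟩, sub_zero]
  exact ⟨(α.quotKerEquivOfSurjective hα).symm.trans
    ((Submodule.quotEquivOfEq _ _ hk).trans (β.quotKerEquivOfSurjective hβ))⟩

end map

section cone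

variable {M : Type u} [AddCommGroup M] [Module A M] (x : A) (l : List A) (i : ℤ)

/-- The first map in the cone sequence. -/
noncomputable def inclH : H M l i →ₗ[A] H M (x :: l) i :=
  Submodule.mapQ _ _ (((LinearMap.inl A (T M l) (T M l)) : T M l →ₗ[A] T M (x :: l)).restrict
    (fun a ha => mem_Z.2 ⟨mem_P_cons.2 ⟨ha.1, zero_mem _⟩, by
      show D M (x :: l) (a, 0) = 0
      rw [D_inl, show D M l a = 0 from ha.2]
      rfl⟩ : ∀ a ∈ Z M l i, _ ∈ Z M (x :: l) i)) (by
    rintro a ⟨b, hb, hba⟩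
    refine ⟨(b, 0), mem_P_cons.2 ⟨hb, zero_mem _⟩, ?_⟩
    rw [D_inl, hba]
    rfl)

/-- The second map in the cone sequence. -/
noncomputable def projH : H M (x :: l) i →ₗ[A] H M l (i - 1) :=
  Submodule.mapQ _ _ (((LinearMap.snd A (T M l) (T M l)) : T M (x :: l) →ₗ[A] T M l).restrict
    (fun (a, b) ha => mem_Z.2 ⟨(mem_P_cons.1 ha.1).2, by
      have := congrArg Prod.snd (show D M (x :: l) (a, b) = 0 from ha.2)
      exact neg_eq_zero.1 this⟩ : ∀ a ∈ Z M (x :: l) i, _ ∈ Z M l (i - 1))) (by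
    rintro c ⟨⟨b₁, b₂⟩, hb, hba⟩
    refine ⟨-b₂, neg_mem ?_, ?_⟩
    · have := (mem_P_cons.1 hb).2
      rwa [add_sub_cancel_right, ← sub_add_cancel i 1] at this
    · rw [map_neg]
      exact congrArg Prod.snd hba)

theorem inclH_cls (a : Z M l i) (h : ((a.1, 0) : T M (x :: l)) ∈ Z M (x :: l) i) :
    inclH x l i (cls l i a) = cls (x :: l) i ⟨(a.1, 0), h⟩ := rfl

theorem range_smul_eq_ker_inclH :
    LinearMap.range (x • LinearMap.id : H M l i →ₗ[A] H M l i) = LinearMap.ker (inclH x l i) := by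
  ext z
  obtain ⟨a, rfl⟩ := cls_surjective l i z
  have ha : ((a.1, 0) : T M (x :: l)) ∈ Z M (x :: l) i := mem_Z.2 ⟨mem_P_cons.2 ⟨a.2.1, zero_mem _⟩, by
    rw [D_inl, show D M l a.1 = 0 from a.2.2]; rfl⟩
  rw [LinearMap.mem_ker, inclH_cls x l i a ha, cls_eq_zero, LinearMap.mem_range]
  constructor
  · rintro ⟨w, hw⟩
    obtain ⟨b, rfl⟩ := cls_surjective l i w
    rw [LinearMap.smul_apply, LinearMap.id_apply, ← map_smul, eq_comm, ← sub_eq_zero, ← map_sub,
      cls_eq_zero] at hw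
    obtain ⟨c, hc, hcw⟩ := hw
    refine ⟨(c, b.1), mem_P_cons.2 ⟨hc, by rw [add_sub_cancel_right]; exact b.2.1⟩, ?_⟩
    rw [D_cons, show D M l b.1 = 0 from b.2.2, neg_zero, hcw, Submodule.coe_sub, Submodule.coe_smul,
      sub_add_cancel]
  · rintro ⟨⟨c, b⟩, hcb, h⟩
    rw [D_cons] at h
    replace hcb := mem_P_cons.1 hcb
    rw [add_sub_cancel_right] at hcb
    have hb : b ∈ Z M l i := mem_Z.2 ⟨hcb.2, neg_eq_zero.1 (congrArg Prod.snd h)⟩
    refine ⟨cls l i ⟨b, hb⟩, ?_⟩
    rw [LinearMap.smul_apply, LinearMap.id_apply, ← map_smul, eq_comm, ← sub_eq_zero, ← map_sub, cls_eq_zero]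
    refine ⟨c, hcb.1, ?_⟩
    have h1 : D M l c + x • b = a.1 := congrArg Prod.fst h
    rw [Submodule.coe_sub, Submodule.coe_smul, ← h1, add_sub_cancel_right]

theorem range_inclH_eq_ker_projH : LinearMap.range (inclH (M := M) x l i) = LinearMap.ker (projH x l i) := by
  ext z
  obtain ⟨⟨⟨a, b⟩, hab⟩, rfl⟩ := cls_surjective (x :: l) i z
  have hb : b ∈ Z M l (i - 1) := mem_Z.2 ⟨(mem_P_cons.1 hab.1).2,
    neg_eq_zero.1 (congrArg Prod.snd (show D M (x :: l) (a, b) = 0 from hab.2))⟩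
  rw [LinearMap.mem_ker, LinearMap.mem_range]
  show _ ↔ cls l (i - 1) ⟨b, hb⟩ = 0
  rw [cls_eq_zero, sub_add_cancel]
  constructor
  · rintro ⟨w, hw⟩
    obtain ⟨c, rfl⟩ := cls_surjective l i w
    rw [inclH_cls x l i c (mem_Z.2 ⟨mem_P_cons.2 ⟨c.2.1, zero_mem _⟩, by
      rw [D_inl, show D M l c.1 = 0 from c.2.2]; rfl⟩),
      eq_comm, ← sub_eq_zero, ← map_sub, cls_eq_zero] at hw
    obtain ⟨⟨d₁, d₂⟩, hd, h⟩ := hw
    replace hd := mem_P_cons.1 hd
    rw [add_sub_cancel_right] at hd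
    refine ⟨-d₂, neg_mem hd.2, ?_⟩
    have h1 : -(D M l d₂) = b - 0 := congrArg Prod.snd h
    rw [map_neg, h1, sub_zero]
  · rintro ⟨d, hd, hdb⟩
    have h1 : D M l a + x • b = 0 := congrArg Prod.fst (show D M (x :: l) (a, b) = 0 from hab.2)
    have hc : a + x • d ∈ Z M l i := mem_Z.2 ⟨add_mem (mem_P_cons.1 hab.1).1 (Submodule.smul_mem _ _ hd), by
      rw [map_add, map_smul, hdb, h1]⟩
    refine ⟨cls l i ⟨_, hc⟩, ?_⟩
    rw [inclH_cls x l i ⟨_, hc⟩ (mem_Z.2 ⟨mem_P_cons.2 ⟨hc.1, zero_mem _⟩, by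
      rw [D_inl, show D M l (a + x • d) = 0 from hc.2]; rfl⟩),
      ← sub_eq_zero, ← map_sub, cls_eq_zero]
    refine ⟨(0, d), mem_P_cons.2 ⟨zero_mem _, by rw [add_sub_cancel_right]; exact hd⟩, ?_⟩
    rw [D_cons, map_zero, zero_add, hdb]
    show ((x • d, -b) : T M l × T M l) = (a + x • d - a, 0 - b)
    rw [add_sub_cancel_left, zero_sub]

theorem range_projH_eq_ker_smul :
    LinearMap.range (projH (M := M) x l i) = LinearMap.ker (x • LinearMap.id : H M l (i - 1) →ₗ[A] H M l (i - 1)) := by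
  ext z
  obtain ⟨⟨b, hb⟩, rfl⟩ := cls_surjective l (i - 1) z
  rw [LinearMap.mem_ker, LinearMap.mem_range, LinearMap.smul_apply, LinearMap.id_apply, ← map_smul,
    cls_eq_zero, sub_add_cancel]
  constructor
  · rintro ⟨w, hw⟩
    obtain ⟨⟨⟨a, b'⟩, hab⟩, rfl⟩ := cls_surjective (x :: l) i w
    have hb' : b' ∈ Z M l (i - 1) := mem_Z.2 ⟨(mem_P_cons.1 hab.1).2,
      neg_eq_zero.1 (congrArg Prod.snd (show D M (x :: l) (a, b') = 0 from hab.2))⟩
    rw [show projH x l i (cls (x :: l) i ⟨(a, b'), hab⟩) = cls l (i - 1) ⟨b', hb'⟩ from rfl,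
      ← sub_eq_zero, ← map_sub, cls_eq_zero, sub_add_cancel] at hw
    obtain ⟨c, hc, hcb⟩ := hw
    have h1 : D M l a + x • b' = 0 := congrArg Prod.fst (show D M (x :: l) (a, b') = 0 from hab.2)
    refine ⟨-a - x • c, sub_mem (neg_mem (mem_P_cons.1 hab.1).1) (Submodule.smul_mem _ _ hc), ?_⟩
    rw [map_sub, map_neg, map_smul, hcb, Submodule.coe_sub, smul_sub, eq_neg_of_add_eq_zero_left h1,
      neg_neg, sub_sub_cancel]
    rfl
  · rintro ⟨c, hc, hcb⟩
    have hab : ((-c, b) : T M (x :: l)) ∈ Z M (x :: l) i := mem_Z.2 ⟨mem_P_cons.2 ⟨neg_mem hc, hb.1⟩, by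
      rw [D_cons, map_neg, hcb, show D M l b = 0 from hb.2, neg_zero]
      show ((-(x • b) + x • b, (0 : T M l)) : T M l × T M l) = 0
      rw [neg_add_cancel]; rfl⟩
    exact ⟨cls (x :: l) i ⟨_, hab⟩, rfl⟩

/-- The length of the homology of a cone. -/
theorem length_cons :
    Module.length A (H M (x :: l) i) =
      Module.length A (H M l i ⧸ LinearMap.range (x • LinearMap.id : H M l i →ₗ[A] H M l i)) +
        Module.length A (LinearMap.ker (x • LinearMap.id : H M l (i - 1) →ₗ[A] H M l (i - 1))) := by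
  rw [Module.length_eq_add_of_exact (LinearMap.ker (projH x l i)).subtype (projH x l i).rangeRestrict
    Subtype.val_injective (projH x l i).surjective_rangeRestrict (fun z => ?_)]
  · congr 1
    · rw [← range_inclH_eq_ker_projH, range_smul_eq_ker_inclH]
      exact (inclH x l i).quotKerEquivRange.length_eq.symm
    · rw [range_projH_eq_ker_smul]
  · rw [← Subtype.coe_inj]
    exact ⟨fun h => ⟨⟨z, h⟩, rfl⟩, by rintro ⟨w, rfl⟩; exact w.2⟩

end cone

end Groth.Agent.H1Koszul
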