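import Groth.Agent.H1Koszul.Devissage
import Groth.Agent.H4LC.KoszulCone
import Groth.Prelude.Def_DRing2

/-! Comparison with the mapping cone model of the Koszul complex. -/

set_option autoImplicit false
universe u

open CategoryTheory CategoryTheory.Limits TensorProduct

namespace Groth.Agent.H1Koszul

variable {A : Type u} [CommRing A] (M : Type u) [AddCommGroup M] [Module A M]

/-- Data comparing the two models. -/
structure Model (l : List A) where
  /-- The comparison maps. -/
  ι : ∀ i : ℤ, ((Koszul.koszul A l).X i ⊗[A] M) →ₗ[A] T M l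
  inj : ∀ i, Function.Injective (ι i)
  range : ∀ i, LinearMap.range (ι i) = P M l (-i)
  comm : ∀ i j, i + 1 = j → ∀ z, D M l (ι i z) = ι j (((Koszul.koszul A l).d i j).hom.rTensor M z)

/-- The model of the empty list. -/
theorem nonempty_model_nil : Nonempty (Model M ([] : List A)) := by
  let e₀ : ((Koszul.koszul A ([] : List A)).X 0) ≃ₗ[A] A :=
    (HomologicalComplex.singleObjXSelf (ComplexShape.up ℤ) (0 : ℤ) (ModuleCat.of A A)).toLinearEquiv
  have hsub : ∀ i : ℤ, i ≠ 0 → Subsingleton ((Koszul.koszul A ([] : List A)).X i ⊗[A] M) := fun i hi => by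
    haveI : Subsingleton ((Koszul.koszul A ([] : List A)).X i) := ModuleCat.subsingleton_of_isZero
      (HomologicalComplex.isZero_single_obj_X (ComplexShape.up ℤ) (0 : ℤ) (ModuleCat.of A A) i hi)
    infer_instance
  let e : ((Koszul.koszul A ([] : List A)).X 0 ⊗[A] M) ≃ₗ[A] T M ([] : List A) :=
    (LinearEquiv.rTensor M e₀).trans (TensorProduct.lid A M)
  classical
  let ι : ∀ i : ℤ, ((Koszul.koszul A ([] : List A)).X i ⊗[A] M) →ₗ[A] T M ([] : List A) := fun i =>
    if h : i = 0 then h ▸ e.toLinearMap else 0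
  have hι0 : ι 0 = e.toLinearMap := dif_pos rfl
  refine ⟨⟨ι, fun i => ?_, fun i => ?_, fun i j hij z => ?_⟩⟩
  · by_cases hi : i = 0
    · subst hi; rw [hι0]; exact e.injective
    · exact @Function.injective_of_subsingleton _ _ (hsub i hi) _
  · by_cases hi : i = 0
    · subst hi; rw [hι0, P_nil, if_pos neg_zero, LinearEquiv.range]
    · rw [P_nil, if_neg (by omega), show ι i = 0 from dif_neg hi, LinearMap.range_zero]
  · by_cases hj : j = 0
    · haveI := hsub i (by omega)
      rw [Subsingleton.elim z 0, map_zero, map_zero, map_zero, map_zero]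
    · rw [show ι j = 0 from dif_neg hj]
      rfl

/-- The model of a cone. -/
theorem nonempty_model : ∀ l : List A, Nonempty (Model M l)
  | [] => nonempty_model_nil M
  | f :: l => by
    obtain ⟨m⟩ := nonempty_model l
    let K := Koszul.koszul A l
    let e : ∀ i : ℤ, (CochainComplex.mappingCone (f • 𝟙 K)).X i ⊗[A] M ≃ₗ[A]
        (K.X (i + 1) ⊗[A] M) × (K.X i ⊗[A] M) := fun i =>
      (LinearEquiv.rTensor M (H4LC.coneEquiv K f i (i + 1) rfl)).trans (TensorProduct.prodLeft A A _ _ _)
    let ι : ∀ i : ℤ, (CochainComplex.mappingCone (f • 𝟙 K)).X i ⊗[A] M →ₗ[A] T M (f :: l) := fun i =>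
      LinearMap.comp (LinearMap.prod ((m.ι i).comp (LinearMap.snd A _ _)) ((m.ι (i + 1)).comp (LinearMap.fst A _ _)))
        (e i).toLinearMap
    refine ⟨⟨ι, fun i => ?_, fun i => ?_, fun i j hij z => ?_⟩⟩
    · intro z w h
      have h1 : m.ι i (e i z).2 = m.ι i (e i w).2 := congrArg Prod.fst h
      have h2 : m.ι (i + 1) (e i z).1 = m.ι (i + 1) (e i w).1 := congrArg Prod.snd h
      exact (e i).injective (Prod.ext (m.inj _ h2) (m.inj _ h1))
    · refine le_antisymm ?_ ?_
      · rintro _ ⟨z, rfl⟩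
        refine mem_P_cons.2 ⟨m.range i ▸ ⟨_, rfl⟩, ?_⟩
        rw [show -i - 1 = -(i + 1) by omega, ← m.range]
        exact ⟨_, rfl⟩
      · rintro ⟨a, b⟩ hab
        obtain ⟨ha, hb⟩ := mem_P_cons.1 hab
        rw [← m.range] at ha
        rw [show -i - 1 = -(i + 1) by omega, ← m.range] at hb
        obtain ⟨a', rfl⟩ := ha
        obtain ⟨b', rfl⟩ := hb
        refine ⟨(e i).symm (b', a'), ?_⟩
        show ((m.ι i (e i ((e i).symm (b', a'))).2, m.ι (i + 1) (e i ((e i).symm (b', a'))).1) : T M l × T M l) = _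
        rw [LinearEquiv.apply_symm_apply]
    · subst hij
      suffices H : ∀ z : (CochainComplex.mappingCone (f • 𝟙 K)).X i ⊗[A] M, D M (f :: l) (ι i z) =
          ι (i + 1) (((CochainComplex.mappingCone (f • 𝟙 K)).d i (i + 1)).hom.rTensor M z) from H z
      intro z
      induction z using TensorProduct.induction_on with
      | zero => simp only [map_zero]
      | tmul c y =>
        rw [LinearMap.rTensor_tmul]
        show ((D M l (m.ι i ((H4LC.coneEquiv K f i (i + 1) rfl c).2 ⊗ₜ y)) +
            f • m.ι (i + 1) ((H4LC.coneEquiv K f i (i + 1) rfl c).1 ⊗ₜ y),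
            -(D M l (m.ι (i + 1) ((H4LC.coneEquiv K f i (i + 1) rfl c).1 ⊗ₜ y)))) : T M l × T M l) =
          (m.ι (i + 1) ((H4LC.coneEquiv K f (i + 1) (i + 1 + 1) rfl
              (((CochainComplex.mappingCone (f • 𝟙 K)).d i (i + 1)).hom c)).2 ⊗ₜ y),
           m.ι (i + 1 + 1) ((H4LC.coneEquiv K f (i + 1) (i + 1 + 1) rfl
              (((CochainComplex.mappingCone (f • 𝟙 K)).d i (i + 1)).hom c)).1 ⊗ₜ y))
        rw [H4LC.coneEquiv_d K f i (i + 1) (i + 1 + 1) rfl rfl c, m.comm i (i + 1) rfl, m.comm (i + 1) (i + 1 + 1) rfl,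
          LinearMap.rTensor_tmul, LinearMap.rTensor_tmul]
        dsimp only
        rw [TensorProduct.add_tmul, map_add, ← TensorProduct.smul_tmul', map_smul, TensorProduct.neg_tmul,
          map_neg, add_comm]
      | add a b ha hb => simp only [map_add, ha, hb]

variable {M}

/-- The homology of the mapping cone model. -/
theorem length_homology_eq (l : List A) (i : ℤ) :
    Module.length A ((DRing.tensorCx (Koszul.koszul A l) (ModuleCat.of A M)).homology i) =
      Module.length A (H M l (-i)) := by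
  obtain ⟨m⟩ := nonempty_model M l
  let C := DRing.tensorCx (Koszul.koszul A l) (ModuleCat.of A M)
  let S := C.sc' (i - 1) i (i + 1)
  rw [((C.homologyIsoSc' (i - 1) i (i + 1) (by simp) (by simp)) ≪≫ S.moduleCatHomologyIso).toLinearEquiv.length_eq]
  let φ : LinearMap.ker S.g.hom →ₗ[A] Z M l (-i) := LinearMap.codRestrict _
    ((m.ι i).comp (LinearMap.ker S.g.hom).subtype) fun z => mem_Z.2 ⟨m.range i ▸ ⟨z.1, rfl⟩, by
      show D M l (m.ι i z.1) = 0
      rw [m.comm i (i + 1) rfl]
      exact (congrArg _ z.2).trans (map_zero _)⟩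
  have hφ : Function.Bijective φ := by
    refine ⟨fun z w h => Subtype.ext (m.inj i (congrArg Subtype.val h)), fun ⟨a, ha⟩ => ?_⟩
    obtain ⟨z, hz⟩ := (m.range i).ge ha.1
    refine ⟨⟨z, m.inj (i + 1) ?_⟩, Subtype.ext hz⟩
    show m.ι (i + 1) (((Koszul.koszul A l).d i (i + 1)).hom.rTensor M z) = m.ι (i + 1) 0
    rw [← m.comm i (i + 1) rfl, hz, map_zero]
    exact ha.2
  refine LinearEquiv.length_eq (Submodule.Quotient.equiv _ _ (LinearEquiv.ofBijective φ hφ) ?_)
  refine le_antisymm ?_ ?_
  · rintro _ ⟨z, ⟨w, rfl⟩, rfl⟩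
    refine ⟨m.ι (i - 1) w, ?_, ?_⟩
    · rw [show -i + 1 = -(i - 1) by omega, ← m.range]
      exact ⟨w, rfl⟩
    · rw [m.comm (i - 1) i (by omega)]
      rfl
  · rintro a ⟨b, hb, hba⟩
    rw [show -i + 1 = -(i - 1) by omega, ← m.range] at hb
    obtain ⟨w, rfl⟩ := hb
    refine ⟨_, ⟨w, rfl⟩, Subtype.ext ?_⟩
    rw [m.comm (i - 1) i (by omega)] at hba
    exact hba

theorem finsum_eq_chi [IsNoetherianRing A] (l : List A) :
    (∑ᶠ i : ℤ, ((i.negOnePow : ℤˣ) : ℤ) *
      ((Module.length A ((DRing.tensorCx (Koszul.koszul A l) (ModuleCat.of A M)).homology i)).toNat : ℤ)) =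
      chi l M := by
  rw [chi, finsum_eq_sum_of_support_subset _ (s := (Finset.range (l.length + 1)).image fun n : ℕ => -(n : ℤ)) ?_,
    Finset.sum_image (fun a _ b _ hab => by simpa using hab)]
  · refine Finset.sum_congr rfl fun n _ => ?_
    rw [length_homology_eq, neg_neg, Int.negOnePow_neg, Int.coe_negOnePow_natCast]
    rfl
  · intro i hi
    simp only [Finset.coe_image, Finset.coe_range, Set.mem_image, Set.mem_Iio]
    by_contra hne
    refine hi ?_
    have : len l M (-i) = 0 := len_eq_zero (by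
      by_contra h
      exact hne ⟨(-i).toNat, by omega, by omega⟩)
    show _ * _ = (0 : ℤ)
    rw [length_homology_eq, show (Module.length A (H M l (-i))).toNat = 0 from this, Nat.cast_zero, mul_zero]

theorem span_ofFn {k : ℕ} (x : Fin k → A) : Ideal.span {a | a ∈ List.ofFn x} = Ideal.span (Set.range x) := by
  congr 1
  ext a
  simp [List.mem_ofFn]

theorem small_ofFn [IsNoetherianRing A] [Module.Finite A M] {k : ℕ} (x : Fin k → A)
    (h : IsFiniteLength A (M ⧸ (Ideal.span (Set.range x) • (⊤ : Submodule A M)))) : Small (List.ofFn x) M :=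
  small_of_isFiniteLength (span_ofFn x).ge h

end Groth.Agent.H1Koszul
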