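import Groth.Agent.H1Koszul.Basic
import Groth.Agent.S16234

/-! Lengths and Euler characteristic of Koszul homology. -/

set_option autoImplicit false
universe u

namespace Groth.Agent.H1Koszul

variable {A : Type u} [CommRing A]

/-- The support meets the zero set of the list only in closed points. -/
def Small (l : List A) (M : Type u) [AddCommGroup M] [Module A M] : Prop :=
  ∀ p ∈ Module.support A M, (∀ a ∈ l, a ∈ p.asIdeal) → p.asIdeal.IsMaximal

variable {M N N' : Type u} [AddCommGroup M] [Module A M] [AddCommGroup N] [Module A N]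
  [AddCommGroup N'] [Module A N']

theorem Small.of_injective {l : List A} (h : Small l N) (f : M →ₗ[A] N) (hf : Function.Injective f) :
    Small l M := fun p hp => h p (Module.support_subset_of_injective f hf hp)

theorem Small.of_surjective {l : List A} (h : Small l M) (f : M →ₗ[A] N) (hf : Function.Surjective f) :
    Small l N := fun p hp => h p (Module.support_subset_of_surjective f hf hp)

theorem Small.of_subset_support {l : List A} (h : Small l M) (hs : Module.support A N ⊆ Module.support A M) :
    Small l N := fun p hp => h p (hs hp)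

theorem Small.tail {x : A} {l : List A} (h : Small (x :: l) M)
    (hx : ∀ p ∈ Module.support A M, (∀ a ∈ l, a ∈ p.asIdeal) → x ∈ p.asIdeal) : Small l M :=
  fun p hp hl => h p hp (List.forall_mem_cons.2 ⟨hx p hp hl, hl⟩)

theorem Small.quot [Module.Finite A M] {x : A} {l : List A} (h : Small (x :: l) M) {S : Submodule A M}
    (hS : ∀ m : M, x • m ∈ S) : Small l (M ⧸ S) := by
  intro p hp hl
  refine h p (Module.support_subset_of_surjective _ (Submodule.mkQ_surjective S) hp)
    (List.forall_mem_cons.2 ⟨?_, hl⟩)
  refine Module.mem_support_iff_of_finite.1 hp (Module.mem_annihilator.2 fun z => ?_)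
  obtain ⟨m, rfl⟩ := Submodule.Quotient.mk_surjective _ z
  exact (Submodule.Quotient.mk_eq_zero _).2 (hS m)

theorem annihilator_le_of_mem_support [Module.Finite A M] {p : PrimeSpectrum A}
    (hp : p ∈ Module.support A M) : Module.annihilator A M ≤ p.asIdeal :=
  Module.mem_support_iff_of_finite.1 hp

variable [IsNoetherianRing A]

instance finite_H [Module.Finite A M] (l : List A) (i : ℤ) : Module.Finite A (H M l i) := inferInstance

theorem mem_support_of_support_H [Module.Finite A M] {l : List A} {i : ℤ} {p : PrimeSpectrum A}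
    (hp : p ∈ Module.support A (H M l i)) : p ∈ Module.support A M ∧ ∀ a ∈ l, a ∈ p.asIdeal := by
  have h : Ideal.span {a | a ∈ l} ⊔ Module.annihilator A M ≤ p.asIdeal := fun c hc =>
    Module.mem_support_iff_of_finite.1 hp (Module.mem_annihilator.2 fun z => smul_eq_zero_of_mem hc z)
  exact ⟨Module.mem_support_iff_of_finite.2 (le_sup_right.trans h),
    fun a ha => h (Ideal.mem_sup_left (Ideal.subset_span ha))⟩

theorem length_H_ne_top [Module.Finite A M] {l : List A} (h : Small l M) (i : ℤ) :
    Module.length A (H M l i) ≠ ⊤ :=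
  Module.length_ne_top_iff.2 ((S16234.result A (H M l i)).1 fun p hp =>
    h p (mem_support_of_support_H hp).1 (mem_support_of_support_H hp).2)

theorem small_of_isFiniteLength [Module.Finite A M] {l : List A} {I : Ideal A}
    (hI : I ≤ Ideal.span {a | a ∈ l})
    (h : IsFiniteLength A (M ⧸ (I • (⊤ : Submodule A M)))) : Small l M := by
  intro p hp hl
  refine (S16234.result A _).2 h p ?_
  rw [Module.support_quotient]
  refine ⟨hp, (PrimeSpectrum.mem_zeroLocus _ _).2 ?_⟩
  exact hI.trans (Ideal.span_le.2 hl)

theorem isFiniteLength_of_small [Module.Finite A M] {l : List A}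
    (h : Small l M) : IsFiniteLength A (M ⧸ (Ideal.span {a | a ∈ l} • (⊤ : Submodule A M))) := by
  refine (S16234.result A _).1 fun p hp => ?_
  rw [Module.support_quotient] at hp
  exact h p hp.1 fun a ha => (PrimeSpectrum.mem_zeroLocus _ _).1 hp.2 (Ideal.subset_span ha)

/-- The length of homology, as a natural number. -/
noncomputable def len (l : List A) (M : Type u) [AddCommGroup M] [Module A M] (i : ℤ) : ℕ :=
  (Module.length A (H M l i)).toNat

/-- The Euler characteristic. -/
noncomputable def chi (l : List A) (M : Type u) [AddCommGroup M] [Module A M] : ℤ :=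
  ∑ i ∈ Finset.range (l.length + 1), (-1) ^ i * (len l M (i : ℤ) : ℤ)

theorem len_eq_zero {l : List A} {i : ℤ} (h : i < 0 ∨ (l.length : ℤ) < i) : len l M i = 0 := by
  haveI := subsingleton_H (M := M) l h
  rw [len, Module.length_eq_zero, ENat.toNat_zero]

theorem len_cast [Module.Finite A M] {l : List A} (h : Small l M) (i : ℤ) :
    (len l M i : ℕ∞) = Module.length A (H M l i) := ENat.natCast_toNat (length_H_ne_top h i)

theorem sum_telescope (n : ℕ) (r : ℕ → ℤ) :
    ∑ i ∈ Finset.range n, (-1 : ℤ) ^ i * (r (i + 1) + r i) = r 0 - (-1) ^ n * r n := by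
  induction n with
  | zero => simp
  | succ n ih => rw [Finset.sum_range_succ, ih, pow_succ]; ring

section exact

variable [Module.Finite A M] [Module.Finite A N] [Module.Finite A N'] {f : M →ₗ[A] N} {g : N →ₗ[A] N'}
  (hf : Function.Injective f) (hg : Function.Surjective g) (hfg : Function.Exact f g)

include hf hg hfg in
theorem exists_split {l : List A} (h : Small l N) :
    ∃ r s t : ℤ → ℕ, (∀ i, len l M i = r (i + 1) + s i) ∧ (∀ i, len l N i = s i + t i) ∧
      (∀ i, len l N' i = t i + r i) ∧ r 0 = 0 ∧ r ((l.length : ℤ) + 1) = 0 := by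
  have hM := h.of_injective f hf
  have hN' := h.of_surjective g hg
  let r : ℤ → ℕ∞ := fun i => Module.length A (LinearMap.ker (mapH f l (i - 1)))
  let s : ℤ → ℕ∞ := fun i => Module.length A (LinearMap.range (mapH f l i))
  let t : ℤ → ℕ∞ := fun i => Module.length A (LinearMap.range (mapH g l i))
  have h1 : ∀ i, Module.length A (H M l i) = r (i + 1) + s i := fun i => by
    rw [show r (i + 1) = Module.length A (LinearMap.ker (mapH f l i)) by
      show Module.length A (LinearMap.ker (mapH f l (i + 1 - 1))) = _
      rw [add_sub_cancel_right]]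
    exact Module.length_eq_add_of_exact (LinearMap.ker (mapH f l i)).subtype (mapH f l i).rangeRestrict
      Subtype.val_injective (mapH f l i).surjective_rangeRestrict
      (LinearMap.exact_iff.2 (by rw [LinearMap.ker_rangeRestrict, Submodule.range_subtype]))
  have h2 : ∀ i, Module.length A (H N l i) = s i + t i := fun i =>
    Module.length_eq_add_of_exact (LinearMap.range (mapH f l i)).subtype (mapH g l i).rangeRestrict
      Subtype.val_injective (mapH g l i).surjective_rangeRestrict
      (LinearMap.exact_iff.2 (by
        rw [LinearMap.ker_rangeRestrict, Submodule.range_subtype]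
        exact LinearMap.exact_iff.1 (mapH_exact hf hg hfg l i)))
  have h3 : ∀ i, Module.length A (H N' l i) = t i + r i := fun i => by
    rw [Module.length_eq_add_of_exact (LinearMap.range (mapH g l i)).subtype
      (LinearMap.range (mapH g l i)).mkQ Subtype.val_injective (Submodule.mkQ_surjective _)
      (LinearMap.exact_subtype_mkQ _)]
    exact congrArg _ (nonempty_coker_equiv_ker hf hg hfg l i).some.length_eq
  have hr : ∀ i, r i ≠ ⊤ := fun i hh => length_H_ne_top hN' i (by rw [h3 i, hh, add_top])
  have hs : ∀ i, s i ≠ ⊤ := fun i hh => length_H_ne_top h i (by rw [h2 i, hh, top_add])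
  have ht : ∀ i, t i ≠ ⊤ := fun i hh => length_H_ne_top h i (by rw [h2 i, hh, add_top])
  refine ⟨fun i => (r i).toNat, fun i => (s i).toNat, fun i => (t i).toNat, fun i => ?_, fun i => ?_,
    fun i => ?_, ?_, ?_⟩
  · rw [len, h1, ENat.toNat_add (hr _) (hs _)]
  · rw [len, h2, ENat.toNat_add (hs _) (ht _)]
  · rw [len, h3, ENat.toNat_add (ht _) (hr _)]
  · haveI := subsingleton_H (M := M) l (i := 0 - 1) (Or.inl (by omega))
    show ENat.toNat (Module.length A (LinearMap.ker (mapH f l (0 - 1)))) = 0
    rw [Module.length_eq_zero, ENat.toNat_zero]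
  · have : LinearMap.ker (mapH f l (l.length : ℤ)) = ⊥ := by
      refine LinearMap.ker_eq_bot'.2 fun z hz => ?_
      obtain ⟨a, rfl⟩ := cls_surjective l _ z
      rw [mapH_cls, cls_eq_zero] at hz
      obtain ⟨b, hb, hba⟩ := hz
      rw [P_eq_bot l (Or.inr (lt_add_one _)), Submodule.mem_bot] at hb
      subst hb
      rw [map_zero, mapZ_val] at hba
      have : a = 0 := Subtype.ext (map_injective hf l (hba.symm.trans (map_zero _).symm))
      rw [this, map_zero]
    show ENat.toNat (Module.length A (LinearMap.ker (mapH f l ((l.length : ℤ) + 1 - 1)))) = 0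
    rw [add_sub_cancel_right, this, Module.length_bot, ENat.toNat_zero]

include hf hg hfg in
theorem chi_add {l : List A} (h : Small l N) : chi l N = chi l M + chi l N' := by
  obtain ⟨r, s, t, h1, h2, h3, hr0, hr1⟩ := exists_split hf hg hfg h
  have key := sum_telescope (l.length + 1) fun i => (r (i : ℤ) : ℤ)
  simp only [Nat.cast_zero, hr0, Nat.cast_succ, hr1, mul_zero, sub_zero] at key
  rw [chi, chi, chi, ← Finset.sum_add_distrib, ← sub_eq_zero, ← Finset.sum_sub_distrib, ← neg_eq_zero,
    ← Finset.sum_neg_distrib, ← key]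
  refine Finset.sum_congr rfl fun i _ => ?_
  rw [h1, h2, h3]
  push_cast
  ring

include hf hg hfg in
theorem len_le_add {l : List A} (h : Small l N) (i : ℤ) : len l N i ≤ len l M i + len l N' i := by
  obtain ⟨r, s, t, h1, h2, h3, -, -⟩ := exists_split hf hg hfg h
  rw [h1, h2, h3]
  omega

end exact

theorem chi_congr [Module.Finite A M] [Module.Finite A N] (e : M ≃ₗ[A] N) {l : List A} (h : Small l N) :
    chi l M = chi l N := by
  have h0 := chi_add (f := (e : M →ₗ[A] N)) (g := (0 : N →ₗ[A] PUnit.{u + 1})) e.injective
    (fun _ => ⟨0, Subsingleton.elim _ _⟩) (fun x => ⟨fun _ => ⟨e.symm x, e.apply_symm_apply x⟩, fun _ => Subsingleton.elim _ _⟩) h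
  have h1 : chi l PUnit.{u + 1} = 0 := Finset.sum_eq_zero fun i _ => by
    haveI : Subsingleton (H PUnit.{u + 1} l (i : ℤ)) := by
      refine subsingleton_of_forall_eq 0 fun z => ?_
      obtain ⟨a, rfl⟩ := cls_surjective l _ z
      have hA : (1 : A) ∈ Ideal.span {a | a ∈ l} ⊔ Module.annihilator A PUnit.{u + 1} :=
        Ideal.mem_sup_right (Module.mem_annihilator.2 fun _ => Subsingleton.elim _ _)
      rw [← one_smul A (cls l _ a), smul_eq_zero_of_mem hA]
    rw [len, Module.length_eq_zero, ENat.toNat_zero, Nat.cast_zero, mul_zero]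
  rw [h0, h1, add_zero]

theorem len_congr (e : M ≃ₗ[A] N) (l : List A) (i : ℤ) : len l M i = len l N i := by
  have key : ∀ {X Y : Type u} [AddCommGroup X] [Module A X] [AddCommGroup Y] [Module A Y] (f : X ≃ₗ[A] Y)
      (z : H X l i), mapH (f.symm : Y →ₗ[A] X) l i (mapH (f : X →ₗ[A] Y) l i z) = z := by
    intro X Y _ _ _ _ f z
    obtain ⟨a, rfl⟩ := cls_surjective l i z
    rw [mapH_cls, mapH_cls]
    refine congrArg _ (Subtype.ext ?_)
    rw [mapZ_val, mapZ_val]
    suffices H : ∀ (m : List A) (b : T X m), map (f.symm : Y →ₗ[A] X) m (map (f : X →ₗ[A] Y) m b) = b from H l _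
    intro m
    induction m with
    | nil => exact f.symm_apply_apply
    | cons x m ih => exact fun b => Prod.ext (ih _) (ih _)
  exact congrArg ENat.toNat (LinearEquiv.ofLinearMap (mapH (e : M →ₗ[A] N) l i) (mapH (e.symm : N →ₗ[A] M) l i)
    (LinearMap.ext fun z => key e.symm z) (LinearMap.ext (key e))).length_eq

section cone

variable [Module.Finite A M] (x : A) (l : List A)

theorem mapH_smul_id (i : ℤ) :
    mapH (x • LinearMap.id : M →ₗ[A] M) l i = x • LinearMap.id := by
  refine LinearMap.ext fun z => ?_
  obtain ⟨a, rfl⟩ := cls_surjective l i z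
  rw [mapH_cls, LinearMap.smul_apply, LinearMap.id_apply, ← map_smul]
  refine congrArg _ (Subtype.ext ?_)
  rw [mapZ_val, Submodule.coe_smul]
  generalize (a : T M l) = b
  clear a
  induction l with
  | nil => rfl
  | cons y l ih => exact Prod.ext (ih _) (ih _)

/-- A regular element can be divided out. -/
theorem length_cons_regular (hx : IsSMulRegular M x) (i : ℤ) :
    Module.length A (H M (x :: l) i) =
      Module.length A (H (M ⧸ LinearMap.range (x • LinearMap.id : M →ₗ[A] M)) l i) := by
  have hf : Function.Injective (x • LinearMap.id : M →ₗ[A] M) := hx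
  have hfg := LinearMap.exact_map_mkQ_range (x • LinearMap.id : M →ₗ[A] M)
  have hg := Submodule.mkQ_surjective (LinearMap.range (x • LinearMap.id : M →ₗ[A] M))
  set g := (LinearMap.range (x • LinearMap.id : M →ₗ[A] M)).mkQ
  rw [length_cons, Module.length_eq_add_of_exact (LinearMap.range (mapH g l i)).subtype
    (LinearMap.range (mapH g l i)).mkQ Subtype.val_injective (Submodule.mkQ_surjective _)
    (LinearMap.exact_subtype_mkQ _)]
  congr 1
  · rw [← mapH_smul_id x l i, ← LinearMap.exact_iff.1 (mapH_exact hf hg hfg l i)]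
    exact (mapH g l i).quotKerEquivRange.length_eq
  · rw [← mapH_smul_id x l (i - 1)]
    exact (nonempty_coker_equiv_ker hf hg hfg l i).some.length_eq.symm

theorem len_cons_regular (hx : IsSMulRegular M x) (i : ℤ) :
    len (x :: l) M i = len l (M ⧸ LinearMap.range (x • LinearMap.id : M →ₗ[A] M)) i := by
  rw [len, len, length_cons_regular x l hx i]

theorem small_quot_range (h : Small (x :: l) M) :
    Small l (M ⧸ LinearMap.range (x • LinearMap.id : M →ₗ[A] M)) :=
  h.quot fun m => ⟨m, rfl⟩

theorem chi_cons_regular (hx : IsSMulRegular M x) :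
    chi (x :: l) M = chi l (M ⧸ LinearMap.range (x • LinearMap.id : M →ₗ[A] M)) := by
  rw [chi, chi, List.length_cons, Finset.sum_range_succ,
    len_cons_regular x l hx ((l.length + 1 : ℕ) : ℤ), len_eq_zero (Or.inr (by push_cast; omega)),
    Nat.cast_zero, mul_zero, add_zero]
  exact Finset.sum_congr rfl fun i _ => by rw [len_cons_regular x l hx]

/-- An element killing the module. -/
theorem length_cons_annihilator (hx : x ∈ Module.annihilator A M) (i : ℤ) :
    Module.length A (H M (x :: l) i) = Module.length A (H M l i) + Module.length A (H M l (i - 1)) := by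
  have h : ∀ j, (x • LinearMap.id : H M l j →ₗ[A] H M l j) = 0 := fun j =>
    LinearMap.ext fun z => smul_eq_zero_of_mem (Ideal.mem_sup_right hx) z
  rw [length_cons, h, h, LinearMap.range_zero, LinearMap.ker_zero, (Submodule.quotEquivOfEqBot _ rfl).length_eq,
    Module.length_top]

theorem small_tail_of_annihilator (h : Small (x :: l) M) (hx : x ∈ Module.annihilator A M) : Small l M :=
  h.tail fun _ hp _ => annihilator_le_of_mem_support hp hx

theorem len_cons_annihilator (h : Small (x :: l) M) (hx : x ∈ Module.annihilator A M) (i : ℤ) :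
    len (x :: l) M i = len l M i + len l M (i - 1) := by
  have h' := small_tail_of_annihilator x l h hx
  rw [len, length_cons_annihilator x l hx i, ENat.toNat_add (length_H_ne_top h' _) (length_H_ne_top h' _)]
  rfl

theorem chi_cons_annihilator (h : Small (x :: l) M) (hx : x ∈ Module.annihilator A M) :
    chi (x :: l) M = 0 := by
  have key := sum_telescope (l.length + 2) fun i => (len l M ((i : ℤ) - 1) : ℤ)
  simp only [Nat.cast_succ, add_sub_cancel_right] at key
  rw [chi, List.length_cons, Finset.sum_congr rfl fun i _ => by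
    rw [len_cons_annihilator x l h hx, Nat.cast_add], key,
    len_eq_zero (Or.inl (by omega)), len_eq_zero (Or.inr (by push_cast; omega))]
  simp

end cone

end Groth.Agent.H1Koszul
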