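import Groth.Agent.H1Koszul.Chi

/-! Theorems on Koszul Euler characteristics proved by devissage. -/

set_option autoImplicit false
universe u

namespace Groth.Agent.H1Koszul

variable {A : Type u} [CommRing A] [IsNoetherianRing A]

omit [IsNoetherianRing A] in
/-- The quotient by the range of a scalar is `QuotSMulTop`. -/
noncomputable def quotRangeEquiv (x : A) (M : Type u) [AddCommGroup M] [Module A M] :
    QuotSMulTop x M ≃ₗ[A] M ⧸ LinearMap.range (x • LinearMap.id : M →ₗ[A] M) :=
  Submodule.quotEquivOfEq _ _ (Submodule.ext fun m => by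
    rw [Submodule.mem_smul_pointwise_iff_exists]
    exact ⟨fun ⟨n, _, h⟩ => ⟨n, h⟩, fun ⟨n, h⟩ => ⟨n, trivial, h⟩⟩)

theorem supportDim_quot_range [IsLocalRing A] {M : Type u} [AddCommGroup M] [Module A M] [Module.Finite A M]
    {x : A} (hx : x ∈ IsLocalRing.maximalIdeal A) (reg : IsSMulRegular M x) :
    Module.supportDim A (M ⧸ LinearMap.range (x • LinearMap.id : M →ₗ[A] M)) + 1 = Module.supportDim A M := by
  rw [← Module.supportDim_eq_of_equiv (quotRangeEquiv x M)]
  exact Module.supportDim_quotSMulTop_succ_eq_supportDim reg hx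

theorem supportDim_le_max {N₁ N₂ N₃ : Type u} [AddCommGroup N₁] [Module A N₁] [AddCommGroup N₂]
    [Module A N₂] [AddCommGroup N₃] [Module A N₃] {f : N₁ →ₗ[A] N₂} {g : N₂ →ₗ[A] N₃}
    (hf : Function.Injective f) (hg : Function.Surjective g) (h : Function.Exact f g) :
    Module.supportDim A N₂ ≤ max (Module.supportDim A N₁) (Module.supportDim A N₃) := by
  rw [Module.supportDim, Order.krullDim]
  refine iSup_le fun s => ?_
  have hu : Module.support A N₂ = Module.support A N₁ ∪ Module.support A N₃ :=
    Module.support_of_exact h hf hg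
  have hup : ∀ {S : Set (PrimeSpectrum A)}, (∀ p q : PrimeSpectrum A, p ≤ q → p ∈ S → q ∈ S) →
      (s.head : PrimeSpectrum A) ∈ S → (s.length : WithBot ℕ∞) ≤ Order.krullDim S := fun {S} hS h0 => by
    let s' : LTSeries S :=
      ⟨s.length, fun i => ⟨(s i).1, hS _ _ (s.monotone (Fin.zero_le i)) h0⟩, fun i => s.step i⟩
    exact Order.LTSeries.length_le_krullDim s'
  rcases hu.le s.head.2 with h0 | h0
  · exact le_max_of_le_left (hup (fun p q hpq hp => Module.mem_support_mono hpq hp) h0)
  · exact le_max_of_le_right (hup (fun p q hpq hp => Module.mem_support_mono hpq hp) h0)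

/-- Devissage to modules on which every element is zero or regular. -/
theorem devissage {motive : (N : Type u) → [AddCommGroup N] → [Module A N] → [Module.Finite A N] → Prop}
    (zero : ∀ (N : Type u) [AddCommGroup N] [Module A N] [Module.Finite A N] [Subsingleton N], motive N)
    (prime : ∀ (N : Type u) [AddCommGroup N] [Module A N] [Module.Finite A N],
      (∀ a : A, a ∈ Module.annihilator A N ∨ IsSMulRegular N a) → motive N)
    (exact : ∀ (N₁ : Type u) [AddCommGroup N₁] [Module A N₁] [Module.Finite A N₁] (N₂ : Type u) [AddCommGroup N₂]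
      [Module A N₂] [Module.Finite A N₂] (N₃ : Type u) [AddCommGroup N₃] [Module A N₃] [Module.Finite A N₃]
      (f : N₁ →ₗ[A] N₂) (g : N₂ →ₗ[A] N₃), Function.Injective f → Function.Surjective g → Function.Exact f g →
      motive N₁ → motive N₃ → motive N₂)
    (M : Type u) [AddCommGroup M] [Module A M] [Module.Finite A M] : motive M := by
  induction ‹Module.Finite A M› using IsNoetherianRing.induction_on_isQuotientEquivQuotientPrime A with
  | subsingleton N => exact zero N
  | quotient N p e =>
    refine prime N fun x => ?_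
    by_cases hx : x ∈ p.asIdeal
    · refine Or.inl (Module.mem_annihilator.2 fun n => e.injective ?_)
      rw [map_smul, map_zero]
      obtain ⟨a, ha⟩ := Ideal.Quotient.mk_surjective (e n)
      rw [← ha, Algebra.smul_def, Ideal.Quotient.algebraMap_eq, ← map_mul, Ideal.Quotient.eq_zero_iff_mem]
      exact p.asIdeal.mul_mem_right _ hx
    · refine Or.inr ?_
      rw [isSMulRegular_iff_right_eq_zero_of_smul]
      intro n hn
      refine e.injective ?_
      obtain ⟨a, ha⟩ := Ideal.Quotient.mk_surjective (e n)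
      have h := congrArg e hn
      rw [map_smul, map_zero, ← ha, Algebra.smul_def, Ideal.Quotient.algebraMap_eq, ← map_mul,
        Ideal.Quotient.eq_zero_iff_mem] at h
      rw [map_zero, ← ha, Ideal.Quotient.eq_zero_iff_mem]
      exact (p.isPrime.mem_or_mem h).resolve_left hx
  | exact N₁ N₂ N₃ f g hf hg hfg h₁ h₃ => exact exact N₁ N₂ N₃ f g hf hg hfg h₁ h₃

variable {M : Type u} [AddCommGroup M] [Module A M] [Module.Finite A M]

theorem length_quot_range_eq_ker {N : Type u} [AddCommGroup N] [Module A N] (h : Module.length A N ≠ ⊤)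
    (φ : N →ₗ[A] N) : Module.length A (N ⧸ LinearMap.range φ) = Module.length A (LinearMap.ker φ) := by
  have h1 := Module.length_eq_add_of_exact (LinearMap.range φ).subtype (LinearMap.range φ).mkQ
    Subtype.val_injective (Submodule.mkQ_surjective _) (LinearMap.exact_subtype_mkQ _)
  have h2 := Module.length_eq_add_of_exact (LinearMap.ker φ).subtype φ.rangeRestrict
    Subtype.val_injective φ.surjective_rangeRestrict
    (LinearMap.exact_iff.2 (by rw [LinearMap.ker_rangeRestrict, Submodule.range_subtype]))
  have hr : Module.length A (LinearMap.range φ) ≠ ⊤ := fun hh => h (by rw [h1, hh, top_add])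
  rw [h1, add_comm (Module.length A (LinearMap.ker φ))] at h2
  exact WithTop.add_left_cancel hr h2

theorem chi_cons_zero {x : A} {l : List A} (h : Small l M) : chi (x :: l) M = 0 := by
  let k : ℤ → ℕ := fun j => (Module.length A (LinearMap.ker (x • LinearMap.id : H M l j →ₗ[A] H M l j))).toNat
  have hk : ∀ i, len (x :: l) M i = k i + k (i - 1) := fun i => by
    have hne : ∀ j, Module.length A (LinearMap.ker (x • LinearMap.id : H M l j →ₗ[A] H M l j)) ≠ ⊤ := fun j hh =>
      length_H_ne_top h j (top_le_iff.1 (hh.symm.le.trans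
        (Module.length_le_of_injective _ (Submodule.injective_subtype _))))
    rw [len, length_cons, length_quot_range_eq_ker (length_H_ne_top h i), ENat.toNat_add (hne _) (hne _)]
  have hk0 : ∀ j, (j < 0 ∨ (l.length : ℤ) < j) → k j = 0 := fun j hj => by
    haveI := subsingleton_H (M := M) l hj
    show ENat.toNat _ = 0
    rw [Module.length_eq_zero, ENat.toNat_zero]
  have key := sum_telescope (l.length + 2) fun i => (k ((i : ℤ) - 1) : ℤ)
  simp only [Nat.cast_succ, add_sub_cancel_right] at key
  rw [chi, List.length_cons, Finset.sum_congr rfl fun i _ => by rw [hk, Nat.cast_add], key,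
    hk0 _ (Or.inl (by omega)), hk0 _ (Or.inr (by push_cast; omega))]
  simp

theorem small_mul_left {x y : A} {l : List A} (h : Small ((x * y) :: l) M) : Small (x :: l) M :=
  fun p hp hl => h p hp (List.forall_mem_cons.2
    ⟨p.asIdeal.mul_mem_right _ (List.forall_mem_cons.1 hl).1, (List.forall_mem_cons.1 hl).2⟩)

theorem small_mul_right {x y : A} {l : List A} (h : Small ((x * y) :: l) M) : Small (y :: l) M :=
  fun p hp hl => h p hp (List.forall_mem_cons.2
    ⟨p.asIdeal.mul_mem_left _ (List.forall_mem_cons.1 hl).1, (List.forall_mem_cons.1 hl).2⟩)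

theorem small_mul {x y : A} {l : List A} (hx : Small (x :: l) M) (hy : Small (y :: l) M) :
    Small ((x * y) :: l) M := fun p hp hl => by
  obtain ⟨h1, h2⟩ := List.forall_mem_cons.1 hl
  rcases p.isPrime.mem_or_mem h1 with h | h
  · exact hx p hp (List.forall_mem_cons.2 ⟨h, h2⟩)
  · exact hy p hp (List.forall_mem_cons.2 ⟨h, h2⟩)

omit [IsNoetherianRing A] [Module.Finite A M] in
/-- The three quotients of a product. -/
theorem exists_quot_mul_seq (x y : A) (hx : IsSMulRegular M x) :
    ∃ (f : (M ⧸ LinearMap.range (y • LinearMap.id : M →ₗ[A] M)) →ₗ[A]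
        M ⧸ LinearMap.range ((x * y) • LinearMap.id : M →ₗ[A] M))
      (g : (M ⧸ LinearMap.range ((x * y) • LinearMap.id : M →ₗ[A] M)) →ₗ[A]
        M ⧸ LinearMap.range (x • LinearMap.id : M →ₗ[A] M)),
      Function.Injective f ∧ Function.Surjective g ∧ Function.Exact f g := by
  refine ⟨Submodule.mapQ _ _ (x • LinearMap.id) ?_, Submodule.mapQ _ _ LinearMap.id ?_, ?_, ?_, ?_⟩
  · rintro _ ⟨m, rfl⟩
    exact ⟨m, mul_smul x y m⟩
  · rintro _ ⟨m, rfl⟩
    exact ⟨y • m, (mul_smul x y m).symm⟩
  · rw [injective_iff_map_eq_zero]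
    intro z hz
    obtain ⟨m, rfl⟩ := Submodule.Quotient.mk_surjective _ z
    rw [Submodule.mapQ_apply, Submodule.Quotient.mk_eq_zero] at hz
    obtain ⟨n, hn⟩ := hz
    exact (Submodule.Quotient.mk_eq_zero _).2 ⟨n, hx ((mul_smul x y n).symm.trans hn)⟩
  · intro z
    obtain ⟨m, rfl⟩ := Submodule.Quotient.mk_surjective _ z
    exact ⟨Submodule.Quotient.mk m, rfl⟩
  · intro z
    obtain ⟨m, rfl⟩ := Submodule.Quotient.mk_surjective _ z
    rw [Submodule.mapQ_apply, Submodule.Quotient.mk_eq_zero]
    constructor
    · rintro ⟨n, hn⟩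
      exact ⟨Submodule.Quotient.mk n, congrArg Submodule.Quotient.mk hn⟩
    · rintro ⟨w, hw⟩
      obtain ⟨n, rfl⟩ := Submodule.Quotient.mk_surjective _ w
      rw [Submodule.mapQ_apply, Submodule.Quotient.eq] at hw
      obtain ⟨k, hk⟩ := hw
      exact ⟨n - y • k, by
        rw [map_sub, LinearMap.smul_apply, LinearMap.smul_apply, LinearMap.id_apply, LinearMap.id_apply] at *
        rw [← mul_smul, hk, LinearMap.id_apply, sub_sub_cancel]⟩

theorem chi_mul {x y : A} {l : List A} (hx : Small (x :: l) M) (hy : Small (y :: l) M) :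
    chi ((x * y) :: l) M = chi (x :: l) M + chi (y :: l) M := by
  revert hx hy
  refine devissage (motive := fun N [AddCommGroup N] [Module A N] [Module.Finite A N] => Small (x :: l) N → Small (y :: l) N →
    chi ((x * y) :: l) N = chi (x :: l) N + chi (y :: l) N) ?_ ?_ ?_ M
  · intro N _ _ _ _ _ _
    have h : Small l N := fun p hp => by simp [Module.support_eq_empty] at hp
    rw [chi_cons_zero h, chi_cons_zero h, chi_cons_zero h, add_zero]
  · intro N _ _ _ hpr hx hy
    rcases hpr x with ha | hregx
    · have h := small_tail_of_annihilator x l hx ha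
      rw [chi_cons_zero h, chi_cons_zero h, chi_cons_zero h, add_zero]
    rcases hpr y with ha | hregy
    · have h := small_tail_of_annihilator y l hy ha
      rw [chi_cons_zero h, chi_cons_zero h, chi_cons_zero h, add_zero]
    rw [chi_cons_regular _ _ (hregx.mul hregy), chi_cons_regular _ _ hregx, chi_cons_regular _ _ hregy]
    obtain ⟨f, g, hf, hg, hfg⟩ := exists_quot_mul_seq (M := N) x y hregx
    rw [chi_add hf hg hfg (small_quot_range _ _ (small_mul hx hy)), add_comm]
  · intro N₁ _ _ _ N₂ _ _ _ N₃ _ _ _ f g hf hg hfg h₁ h₃ hx hy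
    rw [chi_add hf hg hfg (small_mul hx hy), chi_add hf hg hfg hx, chi_add hf hg hfg hy,
      h₁ (hx.of_injective f hf) (hy.of_injective f hf), h₃ (hx.of_surjective g hg) (hy.of_surjective g hg)]
    ring

omit [IsNoetherianRing A] in
theorem small_one (l : List A) : Small (1 :: l) M := fun p _ hl =>
  absurd (p.asIdeal.eq_top_iff_one.2 (List.forall_mem_cons.1 hl).1) p.isPrime.ne_top

omit [IsNoetherianRing A] in
theorem small_pow_cons {x : A} {l : List A} (h : Small (x :: l) M) (n : ℕ) : Small ((x ^ n) :: l) M :=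
  fun p hp hl => h p hp (List.forall_mem_cons.2
    ⟨p.isPrime.mem_of_pow_mem n (List.forall_mem_cons.1 hl).1, (List.forall_mem_cons.1 hl).2⟩)

theorem chi_one_cons (l : List A) : chi (1 :: l) M = 0 := Finset.sum_eq_zero fun i _ => by
  haveI : Subsingleton (H M (1 :: l) (i : ℤ)) := subsingleton_of_forall_eq 0 fun z => by
    rw [← one_smul A z]
    exact smul_eq_zero_of_mem (Ideal.mem_sup_left (Ideal.subset_span List.mem_cons_self)) z
  rw [len, Module.length_eq_zero, ENat.toNat_zero, Nat.cast_zero, mul_zero]

theorem chi_pow_cons {x : A} {l : List A} (h : Small (x :: l) M) (n : ℕ) :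
    chi ((x ^ n) :: l) M = n * chi (x :: l) M := by
  induction n with
  | zero => rw [pow_zero, chi_one_cons, Nat.cast_zero, zero_mul]
  | succ n ih => rw [pow_succ, chi_mul (small_pow_cons h n) h, ih]; push_cast; ring

omit [IsNoetherianRing A] in
theorem small_pow {k : ℕ} {x : Fin k → A} (h : Small (List.ofFn x) M) (m : Fin k → ℕ) :
    Small (List.ofFn fun j => x j ^ m j) M := fun p hp hl => h p hp fun a ha => by
  obtain ⟨j, rfl⟩ := List.mem_ofFn.1 ha
  exact p.isPrime.mem_of_pow_mem _ (hl _ (List.mem_ofFn.2 ⟨j, rfl⟩))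

theorem chi_pow : ∀ (k : ℕ) (x : Fin k → A) (m : Fin k → ℕ) (M : Type u) [AddCommGroup M] [Module A M]
    [Module.Finite A M], Small (List.ofFn x) M →
    chi (List.ofFn fun j => x j ^ m j) M = (∏ j, (m j : ℤ)) * chi (List.ofFn x) M := by
  intro k
  induction k with
  | zero => intro x m M _ _ _ _; simp
  | succ k ih =>
    intro x m M _ _ _ h
    rw [List.ofFn_succ] at h
    have ht : ∀ {N : Type u} [AddCommGroup N] [Module A N], Small (x 0 :: List.ofFn fun i : Fin k => x i.succ) N →
        Small (x 0 :: List.ofFn fun i : Fin k => x i.succ ^ m i.succ) N := fun hN p hp hl => by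
      refine hN p hp (List.forall_mem_cons.2 ⟨(List.forall_mem_cons.1 hl).1, fun a ha => ?_⟩)
      obtain ⟨j, rfl⟩ := List.mem_ofFn.1 ha
      exact p.isPrime.mem_of_pow_mem _ ((List.forall_mem_cons.1 hl).2 _ (List.mem_ofFn.2 ⟨j, rfl⟩))
    rw [List.ofFn_succ, List.ofFn_succ, chi_pow_cons (ht h), Fin.prod_univ_succ, mul_assoc]
    congr 1
    revert h
    refine devissage (motive := fun N [AddCommGroup N] [Module A N] [Module.Finite A N] => Small (x 0 :: List.ofFn fun i : Fin k => x i.succ) N →
      chi (x 0 :: List.ofFn fun i : Fin k => x i.succ ^ m i.succ) N =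
        (∏ i : Fin k, (m i.succ : ℤ)) * chi (x 0 :: List.ofFn fun i : Fin k => x i.succ) N) ?_ ?_ ?_ M
    · intro N _ _ _ _ _
      rw [chi_cons_zero (fun p hp => by simp [Module.support_eq_empty] at hp),
        chi_cons_zero (fun p hp => by simp [Module.support_eq_empty] at hp), mul_zero]
    · intro N _ _ _ hpr hN
      rcases hpr (x 0) with ha | hreg
      · have h' := small_tail_of_annihilator _ _ hN ha
        rw [chi_cons_zero h', chi_cons_zero (small_pow h' fun i => m i.succ), mul_zero]
      · rw [chi_cons_regular _ _ hreg, chi_cons_regular _ _ hreg]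
        exact ih _ _ _ (small_quot_range _ _ hN)
    · intro N₁ _ _ _ N₂ _ _ _ N₃ _ _ _ f g hf hg hfg h₁ h₃ hN
      rw [chi_add hf hg hfg (ht hN), chi_add hf hg hfg hN, h₁ (hN.of_injective f hf),
        h₃ (hN.of_surjective g hg), mul_add]

omit [Module.Finite A M] in
theorem length_H_nil : Module.length A (H M ([] : List A) 0) = Module.length A M := by
  have hz : Z M ([] : List A) 0 = ⊤ := by
    rw [Z, P_nil, if_pos rfl, top_inf_eq]
    exact LinearMap.ker_zero
  have hb : (B M ([] : List A) 0).submoduleOf (Z M ([] : List A) 0) = ⊥ := by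
    rw [eq_bot_iff]
    rintro a ⟨b, -, hba⟩
    exact Subtype.ext hba.symm
  rw [(Submodule.quotEquivOfEqBot _ hb).length_eq, hz, Module.length_top]
  rfl

theorem chi_nil : chi ([] : List A) M = ((Module.length A M).toNat : ℤ) := by
  simp [chi, len, length_H_nil]

section dim

variable [IsLocalRing A]

theorem dim_chi : ∀ (k : ℕ) (x : Fin k → A), (∀ j, x j ∈ IsLocalRing.maximalIdeal A) →
    ∀ (M : Type u) [AddCommGroup M] [Module A M] [Module.Finite A M], Small (List.ofFn x) M →
      Module.supportDim A M ≤ (k : WithBot ℕ∞) ∧ 0 ≤ chi (List.ofFn x) M ∧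
      (Module.supportDim A M < (k : WithBot ℕ∞) → chi (List.ofFn x) M = 0) ∧
      (Module.supportDim A M = (k : WithBot ℕ∞) → 0 < chi (List.ofFn x) M) := by
  intro k
  induction k with
  | zero =>
    intro x _ M _ _ _ h
    rw [List.ofFn_zero] at h ⊢
    rw [chi_nil]
    refine ⟨?_, Nat.cast_nonneg _, fun hlt => ?_, fun he => ?_⟩
    · rw [Module.supportDim, Nat.cast_zero]
      haveI : Subsingleton (Module.support A M) := ⟨fun p q => Subtype.ext (PrimeSpectrum.ext
        ((IsLocalRing.eq_maximalIdeal (h p p.2 (by simp))).trans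
          (IsLocalRing.eq_maximalIdeal (h q q.2 (by simp))).symm))⟩
      exact Order.krullDim_nonpos_of_subsingleton
    · rw [Nat.cast_zero] at hlt
      haveI : Subsingleton M := by
        by_contra hne
        rw [not_subsingleton_iff_nontrivial] at hne
        exact absurd hlt (not_lt.2 (Order.krullDim_nonneg_iff.2 (Module.nonempty_support_of_nontrivial (R := A) (M := M)).to_subtype))
      rw [Module.length_eq_zero, ENat.toNat_zero, Nat.cast_zero]
    · haveI : Nontrivial M := (Module.supportDim_ne_bot_iff_nontrivial A M).1 (by rw [he]; exact WithBot.coe_ne_bot)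
      have hne : Module.length A M ≠ ⊤ := length_H_nil (A := A) (M := M) ▸ length_H_ne_top h 0
      have hpos : 0 < Module.length A M := Module.length_pos
      rw [← ENat.natCast_toNat hne] at hpos
      exact_mod_cast hpos
  | succ k ih =>
    intro x hx M _ _ _ h
    revert h
    refine devissage (motive := fun N [AddCommGroup N] [Module A N] [Module.Finite A N] => Small (List.ofFn x) N →
      Module.supportDim A N ≤ ((k + 1 : ℕ) : WithBot ℕ∞) ∧ 0 ≤ chi (List.ofFn x) N ∧
      (Module.supportDim A N < ((k + 1 : ℕ) : WithBot ℕ∞) → chi (List.ofFn x) N = 0) ∧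
      (Module.supportDim A N = ((k + 1 : ℕ) : WithBot ℕ∞) → 0 < chi (List.ofFn x) N)) ?_ ?_ ?_ M
    · intro N _ _ _ _ h
      rw [List.ofFn_succ, chi_cons_zero (fun p hp => by simp [Module.support_eq_empty] at hp),
        Module.supportDim_eq_bot_of_subsingleton]
      exact ⟨bot_le, le_rfl, fun _ => rfl, fun he => absurd he.symm WithBot.coe_ne_bot⟩
    · intro N _ _ _ hpr h
      rw [List.ofFn_succ] at h ⊢
      rcases hpr (x 0) with ha | hreg
      · have h' := small_tail_of_annihilator _ _ h ha
        have hd := (ih _ (fun j => hx _) N h').1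
        have hlt : Module.supportDim A N < ((k + 1 : ℕ) : WithBot ℕ∞) :=
          hd.trans_lt (by exact_mod_cast Nat.lt_succ_self k)
        exact ⟨hlt.le, (chi_cons_zero h').ge, fun _ => chi_cons_zero h', fun he => absurd he hlt.ne⟩
      · obtain ⟨h1, h2, h3, h4⟩ := ih _ (fun j => hx _) _ (small_quot_range _ _ h)
        rw [chi_cons_regular _ _ hreg, ← supportDim_quot_range (hx 0) hreg, Nat.cast_succ]
        refine ⟨add_le_add h1 le_rfl, h2, fun hlt => h3 (lt_of_not_ge fun hge => ?_), fun he => h4 ?_⟩
        · exact absurd hlt (not_lt.2 (add_le_add hge le_rfl))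
        · refine le_antisymm h1 (not_lt.1 fun hlt => ?_)
          generalize Module.supportDim A (N ⧸ LinearMap.range (x 0 • LinearMap.id : N →ₗ[A] N)) = a at hlt he
          match a, hlt, he with
          | ⊥, _, he => exact WithBot.bot_ne_coe he
          | (⊤ : ℕ∞), hlt, _ => exact absurd hlt (not_lt.2 le_top)
          | (n : ℕ), hlt, he =>
            rw [← Nat.cast_succ] at he
            norm_cast at hlt he
            omega
    · intro N₁ _ _ _ N₂ _ _ _ N₃ _ _ _ f g hf hg hfg i₁ i₃ h
      obtain ⟨a1, b1, c1, d1⟩ := i₁ (h.of_injective f hf)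
      obtain ⟨a3, b3, c3, d3⟩ := i₃ (h.of_surjective g hg)
      have hle₁ := Module.supportDim_le_of_injective f hf
      have hle₃ := Module.supportDim_le_of_surjective g hg
      rw [chi_add hf hg hfg h]
      refine ⟨(supportDim_le_max hf hg hfg).trans (max_le a1 a3), add_nonneg b1 b3, fun hlt => ?_, fun he => ?_⟩
      · rw [c1 (hle₁.trans_lt hlt), c3 (hle₃.trans_lt hlt), add_zero]
      · rcases le_max_iff.1 (he.symm.le.trans (supportDim_le_max hf hg hfg)) with hm | hm
        · linarith [d1 (le_antisymm a1 hm)]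
        · linarith [d3 (le_antisymm a3 hm)]

theorem len_quot_pow_le {x : A} {l : List A} (h : Small (x :: l) M) (hx : IsSMulRegular M x) (n : ℕ) (i : ℤ) :
    len l (M ⧸ LinearMap.range (x ^ n • LinearMap.id : M →ₗ[A] M)) i ≤
      n * len l (M ⧸ LinearMap.range (x • LinearMap.id : M →ₗ[A] M)) i := by
  induction n with
  | zero =>
    have hsub : Subsingleton (M ⧸ LinearMap.range (x ^ 0 • LinearMap.id : M →ₗ[A] M)) :=
      Submodule.Quotient.subsingleton_iff.2 (by rw [pow_zero, one_smul, LinearMap.range_id])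
    haveI : Subsingleton (H (M ⧸ LinearMap.range (x ^ 0 • LinearMap.id : M →ₗ[A] M)) l i) :=
      subsingleton_of_forall_eq 0 fun z => by
        rw [← one_smul A z]
        exact smul_eq_zero_of_mem (Ideal.mem_sup_right (Module.mem_annihilator.2 fun _ => Subsingleton.elim _ _)) z
    rw [len, Module.length_eq_zero, ENat.toNat_zero]
    exact Nat.zero_le _
  | succ n ih =>
    obtain ⟨f, g, hf, hg, hfg⟩ := exists_quot_mul_seq (M := M) x (x ^ n) hx
    rw [pow_succ']
    refine (len_le_add hf hg hfg (small_quot_range _ _ (small_mul h (small_pow_cons h n))) i).trans ?_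
    rw [Nat.succ_mul]
    exact add_le_add ih le_rfl

theorem exists_len_pow_le : ∀ (k : ℕ) (x : Fin k → A) (M : Type u) [AddCommGroup M] [Module A M]
    [Module.Finite A M], Small (List.ofFn x) M →
    ∃ c : ℕ, ∀ n : ℕ, 0 < n → ∀ i : ℕ, i ≤ k → len (List.ofFn fun j => x j ^ n) M i ≤ c * n ^ (k - i) := by
  intro k
  induction k with
  | zero =>
    intro x M _ _ _ _
    exact ⟨len ([] : List A) M 0, fun n _ i hi => by
      obtain rfl : i = 0 := by omega
      simp⟩
  | succ k ih =>
    intro x M _ _ _ h
    revert h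
    refine devissage (motive := fun N [AddCommGroup N] [Module A N] [Module.Finite A N] => Small (List.ofFn x) N → ∃ c : ℕ, ∀ n : ℕ, 0 < n → ∀ i : ℕ,
      i ≤ k + 1 → len (List.ofFn fun j => x j ^ n) N i ≤ c * n ^ (k + 1 - i)) ?_ ?_ ?_ M
    · intro N _ _ _ _ _
      refine ⟨0, fun n _ i _ => ?_⟩
      haveI : Subsingleton (H N (List.ofFn fun j => x j ^ n) (i : ℤ)) := subsingleton_of_forall_eq 0 fun z => by
        rw [← one_smul A z]
        exact smul_eq_zero_of_mem (Ideal.mem_sup_right (Module.mem_annihilator.2 fun _ => Subsingleton.elim _ _)) z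
      rw [len, Module.length_eq_zero, ENat.toNat_zero, zero_mul]
    · intro N _ _ _ hpr h
      rw [List.ofFn_succ] at h
      rcases hpr (x 0) with ha | hreg
      · have h' := small_tail_of_annihilator _ _ h ha
        obtain ⟨c, hc⟩ := ih _ N h'
        refine ⟨c + c, fun n hn i hi => ?_⟩
        rw [List.ofFn_succ, len_cons_annihilator _ _ (fun p hp hl => small_pow h' (fun _ => n) p hp (List.forall_mem_cons.1 hl).2)
          (Ideal.pow_mem_of_mem _ ha n hn), add_mul]
        refine add_le_add ?_ ?_
        · rcases Nat.lt_or_ge k i with hlt | hge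
          · rw [len_eq_zero (Or.inr (by rw [List.length_ofFn]; exact_mod_cast hlt))]
            exact Nat.zero_le _
          · exact (hc n hn i hge).trans (Nat.mul_le_mul_left _ (Nat.pow_le_pow_right hn (by omega)))
        · rcases i with _ | i
          · rw [len_eq_zero (Or.inl (by norm_num))]
            exact Nat.zero_le _
          · rw [show ((i + 1 : ℕ) : ℤ) - 1 = (i : ℤ) by push_cast; ring, show k + 1 - (i + 1) = k - i by omega]
            exact hc n hn i (by omega)
      · obtain ⟨c, hc⟩ := ih _ _ (small_quot_range _ _ h)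
        refine ⟨c, fun n hn i hi => ?_⟩
        rw [List.ofFn_succ, len_cons_regular _ _ (hreg.pow n)]
        have hsm : Small (x 0 :: List.ofFn fun j : Fin k => x j.succ ^ n) N := fun p hp hl => by
          refine h p hp (List.forall_mem_cons.2 ⟨(List.forall_mem_cons.1 hl).1, fun a ha => ?_⟩)
          obtain ⟨j, rfl⟩ := List.mem_ofFn.1 ha
          exact p.isPrime.mem_of_pow_mem _ ((List.forall_mem_cons.1 hl).2 _ (List.mem_ofFn.2 ⟨j, rfl⟩))
        rcases Nat.lt_or_ge k i with hlt | hge
        · rw [len_eq_zero (Or.inr (by rw [List.length_ofFn]; exact_mod_cast hlt))]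
          exact Nat.zero_le _
        · refine (len_quot_pow_le hsm hreg n i).trans ((Nat.mul_le_mul_left n (hc n hn i hge)).trans (le_of_eq ?_))
          rw [show k + 1 - i = k - i + 1 by omega, pow_succ]
          ring
    · intro N₁ _ _ _ N₂ _ _ _ N₃ _ _ _ f g hf hg hfg i₁ i₃ h
      obtain ⟨c₁, hc₁⟩ := i₁ (h.of_injective f hf)
      obtain ⟨c₃, hc₃⟩ := i₃ (h.of_surjective g hg)
      refine ⟨c₁ + c₃, fun n hn i hi => (len_le_add hf hg hfg (small_pow h _) i).trans ?_⟩
      rw [add_mul]
      exact add_le_add (hc₁ n hn i hi) (hc₃ n hn i hi)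

theorem exists_len_pow_le_dim : ∀ (k : ℕ) (x : Fin k → A), (∀ j, x j ∈ IsLocalRing.maximalIdeal A) →
    ∀ (M : Type u) [AddCommGroup M] [Module A M] [Module.Finite A M] (d : ℕ), Small (List.ofFn x) M →
      Module.supportDim A M ≤ (d : WithBot ℕ∞) →
      ∃ c : ℕ, ∀ n : ℕ, 0 < n → ∀ i : ℤ, len (List.ofFn fun j => x j ^ n) M i ≤ c * n ^ d := by
  intro k
  induction k with
  | zero =>
    intro x _ M _ _ _ d _ _
    refine ⟨len ([] : List A) M 0, fun n hn i => ?_⟩
    rcases eq_or_ne i 0 with rfl | hi
    · rw [List.ofFn_zero]; exact Nat.le_mul_of_pos_right _ (Nat.pow_pos hn)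
    · rw [List.ofFn_zero, len_eq_zero (by rw [List.length_nil]; omega)]
      exact Nat.zero_le _
  | succ k ih =>
    intro x hx M _ _ _ d h hd
    revert h hd
    refine devissage (motive := fun N [AddCommGroup N] [Module A N] [Module.Finite A N] => Small (List.ofFn x) N → Module.supportDim A N ≤ (d : WithBot ℕ∞) →
      ∃ c : ℕ, ∀ n : ℕ, 0 < n → ∀ i : ℤ, len (List.ofFn fun j => x j ^ n) N i ≤ c * n ^ d) ?_ ?_ ?_ M
    · intro N _ _ _ _ _ _
      refine ⟨0, fun n _ i => ?_⟩
      haveI : Subsingleton (H N (List.ofFn fun j => x j ^ n) i) := subsingleton_of_forall_eq 0 fun z => by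
        rw [← one_smul A z]
        exact smul_eq_zero_of_mem (Ideal.mem_sup_right (Module.mem_annihilator.2 fun _ => Subsingleton.elim _ _)) z
      rw [len, Module.length_eq_zero, ENat.toNat_zero, zero_mul]
    · intro N _ _ _ hpr h hd
      rw [List.ofFn_succ] at h
      rcases hpr (x 0) with ha | hreg
      · have h' := small_tail_of_annihilator _ _ h ha
        obtain ⟨c, hc⟩ := ih _ (fun j => hx _) N d h' hd
        refine ⟨c + c, fun n hn i => ?_⟩
        rw [List.ofFn_succ, len_cons_annihilator _ _ (fun p hp hl => small_pow h' (fun _ => n) p hp (List.forall_mem_cons.1 hl).2)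
          (Ideal.pow_mem_of_mem _ ha n hn), add_mul]
        exact add_le_add (hc n hn _) (hc n hn _)
      · have hdq := supportDim_quot_range (hx 0) hreg
        obtain rfl | ⟨e, rfl⟩ : d = 0 ∨ ∃ e, d = e + 1 := by
          rcases d with _ | e
          · exact Or.inl rfl
          · exact Or.inr ⟨e, rfl⟩
        · refine ⟨0, fun n hn i => ?_⟩
          haveI : Subsingleton N := by
            rw [← Module.supportDim_eq_bot_iff_subsingleton A N, ← hdq]
            rw [← hdq, Nat.cast_zero] at hd
            generalize Module.supportDim A (N ⧸ LinearMap.range (x 0 • LinearMap.id : N →ₗ[A] N)) = a at hd ⊢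
            match a, hd with
            | ⊥, _ => rfl
            | (a : ℕ∞), hd =>
              exfalso
              have h1 : a + 1 ≤ (0 : ℕ∞) := by exact_mod_cast hd
              exact absurd ((le_add_self : (1 : ℕ∞) ≤ a + 1).trans h1) (by decide)
          haveI : Subsingleton (H N (List.ofFn fun j => x j ^ n) i) := subsingleton_of_forall_eq 0 fun z => by
            rw [← one_smul A z]
            exact smul_eq_zero_of_mem (Ideal.mem_sup_right (Module.mem_annihilator.2 fun _ => Subsingleton.elim _ _)) z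
          rw [len, Module.length_eq_zero, ENat.toNat_zero, zero_mul]
        · have he : Module.supportDim A (N ⧸ LinearMap.range (x 0 • LinearMap.id : N →ₗ[A] N)) ≤ (e : WithBot ℕ∞) := by
            rw [← hdq, Nat.cast_succ] at hd
            generalize Module.supportDim A (N ⧸ LinearMap.range (x 0 • LinearMap.id : N →ₗ[A] N)) = a at hd ⊢
            match a, hd with
            | ⊥, _ => exact bot_le
            | (a : ℕ∞), hd =>
              have h1 : a + 1 ≤ (e : ℕ∞) + 1 := by exact_mod_cast hd
              exact_mod_cast (WithTop.le_of_add_le_add_right ENat.one_ne_top h1)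
          obtain ⟨c, hc⟩ := ih _ (fun j => hx _) _ e (small_quot_range _ _ h) he
          refine ⟨c, fun n hn i => ?_⟩
          rw [List.ofFn_succ, len_cons_regular _ _ (hreg.pow n)]
          have hsm : Small (x 0 :: List.ofFn fun j : Fin k => x j.succ ^ n) N := fun p hp hl => by
            refine h p hp (List.forall_mem_cons.2 ⟨(List.forall_mem_cons.1 hl).1, fun a ha => ?_⟩)
            obtain ⟨j, rfl⟩ := List.mem_ofFn.1 ha
            exact p.isPrime.mem_of_pow_mem _ ((List.forall_mem_cons.1 hl).2 _ (List.mem_ofFn.2 ⟨j, rfl⟩))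
          refine (len_quot_pow_le hsm hreg n i).trans ((Nat.mul_le_mul_left n (hc n hn i)).trans (le_of_eq ?_))
          rw [pow_succ]
          ring
    · intro N₁ _ _ _ N₂ _ _ _ N₃ _ _ _ f g hf hg hfg i₁ i₃ h hd
      obtain ⟨c₁, hc₁⟩ := i₁ (h.of_injective f hf) ((Module.supportDim_le_of_injective f hf).trans hd)
      obtain ⟨c₃, hc₃⟩ := i₃ (h.of_surjective g hg) ((Module.supportDim_le_of_surjective g hg).trans hd)
      refine ⟨c₁ + c₃, fun n hn i => (len_le_add hf hg hfg (small_pow h _) i).trans ?_⟩
      rw [add_mul]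
      exact add_le_add (hc₁ n hn i) (hc₃ n hn i)

end dim

end Groth.Agent.H1Koszul
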